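import Cfsg.Agent.Lib.Chev.E62Mult.Coord
import Cfsg.Agent.Lib.Schur.LiftComm
import Cfsg.Agent.Lib.Schur.ChainSplit

/-!
Central extensions over the unipotent part of a twisted group of type E6 over more than two elements.
-/

set_option autoImplicit false
set_option maxRecDepth 100000

namespace CfsgLib.Chev.E62Mult

open Cfsg.Lie Matrix CfsgLib.Chev CfsgLib.Chev.OrdList CfsgLib.Schur CfsgLib.Schur.LiftComm
open CfsgLib.Schur.ChainSplit
open scoped commutatorElement

section Scale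

variable {Γ G : Type*} [Group Γ] [Group G] {π : Γ →* G} {F : Type*} [Field F] [Fintype F]

/-- an image of the additive group scaled by every scalar has commuting lifts -/
theorem lc_scale (hc : π.ker ≤ Subgroup.center Γ) (hsurj : Function.Surjective π) (h5 : 5 ≤ Fintype.card F)
    (M : F → G) (hM : ∀ a b, M (a + b) = M a * M b)
    (hop : ∀ s : F, s ≠ 0 → ∃ g : G, ∀ a, g * M a * g⁻¹ = M (s * a)) (a b : F) : LC π (M a) (M b) := by
  classical
  choose L hL using fun a => hsurj (M a)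
  letI : CommGroup π.ker := { (inferInstance : Group π.ker) with
    mul_comm := fun x y => Subtype.ext (ker_comm hc y.2 x) }
  have hcom : ∀ a b, M a * M b = M b * M a := fun a b => by rw [← hM, ← hM, add_comm]
  have hker : ∀ a b, ⁅L a, L b⁆ ∈ π.ker := fun a b => by
    rw [MonoidHom.mem_ker, map_commutatorElement, hL, hL, commutatorElement_eq_one_iff_mul_comm]
    exact hcom a b
  let β : F → F → Additive π.ker := fun a b => Additive.ofMul ⟨_, hker a b⟩
  have h1 : ∀ x x' y, β (x + x') y = β x y + β x' y := fun x x' y => by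
    refine Additive.toMul.injective (Subtype.ext ?_)
    show ⁅L (x + x'), L y⁆ = ⁅L x, L y⁆ * ⁅L x', L y⁆
    rw [comm_eq hc (a' := L x * L x') (b' := L y) (by rw [map_mul, hL, hL, hL, hM]) rfl,
      show ⁅L x * L x', L y⁆ = L x * ⁅L x', L y⁆ * (L x)⁻¹ * ⁅L x, L y⁆ by
        simp only [commutatorElement_def]; group,
      ker_comm hc (hker x' y) (L x), mul_inv_cancel_right]
    exact ker_comm hc (hker x y) _
  have h2 : ∀ x y y', β x (y + y') = β x y + β x y' := fun x y y' => by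
    refine Additive.toMul.injective (Subtype.ext ?_)
    show ⁅L x, L (y + y')⁆ = ⁅L x, L y⁆ * ⁅L x, L y'⁆
    rw [comm_eq hc (a' := L x) (b' := L y * L y') rfl (by rw [map_mul, hL, hL, hL, hM]),
      show ⁅L x, L y * L y'⁆ = ⁅L x, L y⁆ * (L y * ⁅L x, L y'⁆ * (L y)⁻¹) by
        simp only [commutatorElement_def]; group,
      ker_comm hc (hker x y') (L y), mul_inv_cancel_right]
  have hinv : ∀ s : F, s ≠ 0 → ∀ x y, β (s * x) (s * y) = β x y := fun s hs x y => by
    refine Additive.toMul.injective (Subtype.ext ?_)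
    show ⁅L (s * x), L (s * y)⁆ = ⁅L x, L y⁆
    obtain ⟨g, hg⟩ := hop s hs
    obtain ⟨c, rfl⟩ := hsurj g
    rw [comm_eq hc (a' := c * L x * c⁻¹) (b' := c * L y * c⁻¹)
      (by rw [map_mul, map_mul, map_inv, hL, hL, hg x]) (by rw [map_mul, map_mul, map_inv, hL, hL, hg y]),
      ← conjugate_commutatorElement, ker_comm hc (hker x y) c, mul_inv_cancel_right]
  have hdiv : ∀ z : F, z ≠ 0 → ∀ w, β z w = β 1 (w / z) := fun z hz w => by
    have h := hinv z hz 1 (w / z)
    rwa [mul_one, mul_div_cancel₀ _ hz] at h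
  -- a good scalar
  obtain ⟨z, hz0, hz1, hz2⟩ : ∃ z : F, z ≠ 0 ∧ z + 1 ≠ 0 ∧ z * z + z + 1 ≠ 0 := by
    by_contra hall
    push Not at hall
    obtain ⟨r, hr⟩ : ∃ r : F, ∀ z, z ≠ 0 → z + 1 ≠ 0 → z = r ∨ z = -1 - r := by
      by_cases hex : ∃ r : F, r * r + r + 1 = 0
      · obtain ⟨r, hr⟩ := hex
        refine ⟨r, fun z h0 h1 => ?_⟩
        have h : (z - r) * (z - (-1 - r)) = 0 := by linear_combination hall z h0 h1 - hr
        rcases mul_eq_zero.1 h with h | h
        exacts [Or.inl (sub_eq_zero.1 h), Or.inr (sub_eq_zero.1 h)]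
      · exact ⟨0, fun z h0 h1 => absurd ⟨z, hall z h0 h1⟩ hex⟩
    have hsub : (Finset.univ : Finset F) ⊆ {0, -1, r, -1 - r} := fun z _ => by
      by_cases h0 : z = 0
      · simp [h0]
      by_cases h1 : z + 1 = 0
      · simp [eq_neg_of_add_eq_zero_left h1]
      rcases hr z h0 h1 with e | e <;> simp [e]
    have := (Finset.card_le_card hsub).trans (Finset.card_le_four)
    rw [Finset.card_univ] at this
    omega
  have hf : ∀ w, β 1 w = 0 := by
    intro w
    have key : ∀ v, β 1 (z * v) + β 1 (v / z) + β 1 v = 0 := fun v => by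
      have h := hinv (z + 1) hz1 1 v
      rw [mul_one, h1, add_mul, one_mul, h2, h2] at h
      have e1 : β z (z * v) = β 1 v := by
        have := hinv z hz0 1 v
        rwa [mul_one] at this
      rw [e1, hdiv z hz0 v] at h
      have h' : β 1 v + (β 1 (z * v) + β 1 (v / z) + β 1 v) = β 1 v + 0 := by
        rw [add_zero]
        refine Eq.trans ?_ h
        abel
      exact add_left_cancel h'
    obtain ⟨v, hv⟩ : ∃ v, v = w * z / (z * z + z + 1) := ⟨_, rfl⟩
    have e : w = z * v + v / z + v := by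
      have h3 : v / z = w / (z * z + z + 1) := by rw [hv, div_div, mul_comm (z * z + z + 1) z, ← div_div, mul_div_cancel_right₀ _ hz0]
      rw [h3, hv, mul_div_assoc', ← add_div, ← add_div, eq_div_iff hz2]
      ring
    rw [e, h2, h2]
    exact key _
  have h0 : β a b = 0 := by
    by_cases ha : a = 0
    · subst ha
      have h := h1 0 0 b
      rw [add_zero] at h
      exact left_eq_add.1 h
    · rw [hdiv a ha, hf]
  intro p r hp hr
  refine commutatorElement_eq_one_iff_mul_comm.1 ?_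
  rw [comm_eq hc (a' := L a) (b' := L b) (hp.trans (hL a).symm) (hr.trans (hL b).symm)]
  exact congrArg (fun z => ((Additive.toMul z : π.ker) : Γ)) h0

end Scale

variable {K : Type*} [Field K] {q : ℕ} {σ : K →+* K}

local notation "g₆" => stdE6.good

/-- one block -/
def blk (i : ℕ) : List (ℕ × ℤ) := blks.getD i []

/-- the head of a block -/
def top (i : ℕ) : ℕ := ((blk i).headD (0, 1)).1

/-- the central series -/
noncomputable def Ug (σ : K →+* K) (i : ℕ) : Subgroup ↥(E62.tw σ).fix :=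
  (UL K g₆ (rest i)).subgroupOf (E62.tw σ).fix

theorem series_chk : ∀ i < 24, blkChk (blk i) (rest (i + 1)) = true ∧
    rest i = (blk i).map Prod.fst ++ rest (i + 1) ∧
    commChk chevE6 auxE6 (rest 0) (rest i) (rest (i + 1)) = true := by
  decide +kernel

theorem cart_twist : ∀ x < chevE6.nroots, ∀ i < 6,
    auxE6.cart (foldE62.p i) (foldE62.r x) = auxE6.cart i x := by
  decide +kernel

theorem p_vals : foldE62.p 0 = 5 ∧ foldE62.p 1 = 1 ∧ foldE62.p 2 = 4 ∧ foldE62.p 3 = 3 ∧ foldE62.p 4 = 2 ∧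
    foldE62.p 5 = 0 := by
  decide +kernel

theorem rest_zero : ∀ r, r ∈ rest 0 ↔ r ∈ chevE6.posRoots := by
  have h : (rest 0).all (fun r => chevE6.posRoots.contains r) &&
      chevE6.posRoots.all (fun r => (rest 0).contains r) = true := by decide +kernel
  simp only [Bool.and_eq_true, List.all_eq_true, List.contains_iff_mem, decide_eq_true_eq] at h
  exact fun r => ⟨h.1 r, h.2 r⟩

theorem rest_end : rest 24 = [] := by decide +kernel

theorem wk_r (lam : Kˣ) (hinv : ∀ x, σ (σ x) = x) (k : Fin 6 → ℤ) {x : ℕ} (hx : x < chevE6.nroots) :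
    (wk σ lam k (foldE62.r x) : K) = σ (wk σ lam k x : K) := by
  have hv : Units.map σ.toMonoidHom (Units.map σ.toMonoidHom lam) = lam := Units.ext (hinv _)
  have hA : wA k (foldE62.r x) = wB k x ∧ wB k (foldE62.r x) = wA k x := by
    obtain ⟨p0, p1, p2, p3, p4, p5⟩ := p_vals
    have c := cart_twist x hx
    have c0 := c 0 (by norm_num); have c1 := c 1 (by norm_num); have c2 := c 2 (by norm_num)
    have c3 := c 3 (by norm_num); have c4 := c 4 (by norm_num); have c5 := c 5 (by norm_num)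
    rw [p0] at c0; rw [p1] at c1; rw [p2] at c2; rw [p3] at c3; rw [p4] at c4; rw [p5] at c5
    constructor <;> simp only [wA, wB, c0, c1, c2, c3, c4, c5] <;> ring
  show _ = ((Units.map σ.toMonoidHom (wk σ lam k x) : Kˣ) : K)
  rw [wk, wk, map_mul, map_zpow, map_zpow, hv, hA.1, hA.2, mul_comm]

/-- a torus element of the fixed group -/
noncomputable def tk (σ : K →+* K) (hinv : ∀ x, σ (σ x) = x) (lam : Kˣ) (k : Fin 6 → ℤ) : ↥(E62.tw σ).fix :=
  ⟨tor chevE6 auxE6 (cvk σ lam k), by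
    rw [Twist.tor_mem_fix_iff, (Twist.mem_thetaFix _).1 (cvk_fix hinv lam k)]⟩

theorem tor_conj (hinv : ∀ x, σ (σ x) = x) (lam : Kˣ) (k : Fin 6 → ℤ) {r : ℕ} (hr : r < chevE6.nroots) (t : K) :
    tor chevE6 auxE6 (cvk σ lam k) * xG g₆ r t * (tor chevE6 auxE6 (cvk σ lam k))⁻¹ =
      xG g₆ r ((wk σ lam k r : K) * t) := by
  rw [tor_conj_xG g₆ _ hr, chi_cvk]

theorem offOne_ne (hq : 3 ≤ q) {a b : ℤ} (h : offOne a b = true) : ¬ ((q : ℤ) ^ 2 - 1) ∣ a + q * b := by
  simp only [offOne, decide_eq_true_eq] at h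
  have hq' : (3 : ℤ) ≤ q := by exact_mod_cast hq
  intro hd
  rcases h with ⟨ha, hb, hne⟩ | ⟨rfl, hb1, hb7⟩ | ⟨rfl, ha1, ha7⟩
  · rcases hq.eq_or_lt with e | e
    · subst e
      norm_num at hd
      exact hne (Int.emod_eq_zero_of_dvd hd)
    · have h4 : (4 : ℤ) ≤ q := by exact_mod_cast e
      have ha' : a.natAbs ≤ 2 := ha
      have hsmall : |a + q * b| < (q : ℤ) ^ 2 - 1 := by
        have h1 : |a| ≤ 2 := by rw [Int.abs_eq_natAbs]; exact_mod_cast ha
        have h2 : |b| ≤ 2 := by rw [Int.abs_eq_natAbs]; exact_mod_cast hb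
        have h3 := abs_add_le a (q * b)
        rw [abs_mul, abs_of_nonneg (by omega : (0 : ℤ) ≤ q)] at h3
        nlinarith
      have h0 := Int.eq_zero_of_abs_lt_dvd hd hsmall
      have hb0 : b = 0 := by
        by_contra hb0
        have h1 : |a| ≤ 2 := by rw [Int.abs_eq_natAbs]; exact_mod_cast ha
        have h2 : (q : ℤ) * |b| = |a| := by
          rw [← abs_of_nonneg (by omega : (0 : ℤ) ≤ q), ← abs_mul, show (q : ℤ) * b = -a by linarith, abs_neg]
        have h3 : 1 ≤ |b| := Int.one_le_abs hb0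
        nlinarith
      subst hb0
      simp at h0
      subst h0
      simp at hne
  · have hd' : ((q : ℤ) ^ 2 - 1) ∣ b := by
      have h1 : ((q : ℤ) ^ 2 - 1) ∣ (q : ℤ) * (0 + q * b) := hd.mul_left _
      have h2 : ((q : ℤ) ^ 2 - 1) ∣ ((q : ℤ) ^ 2 - 1) * b := dvd_mul_right _ _
      have h3 := dvd_sub h1 h2
      have e : (q : ℤ) * (0 + q * b) - ((q : ℤ) ^ 2 - 1) * b = b := by ring
      rwa [e] at h3
    have hb0 := Int.eq_zero_of_abs_lt_dvd hd' (by
      have : |b| ≤ 7 := by rw [Int.abs_eq_natAbs]; exact_mod_cast hb7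
      nlinarith)
    simp [hb0] at hb1
  · have ha0 := Int.eq_zero_of_abs_lt_dvd (by simpa using hd : ((q : ℤ) ^ 2 - 1) ∣ a) (by
      have : |a| ≤ 7 := by rw [Int.abs_eq_natAbs]; exact_mod_cast ha7
      nlinarith)
    simp [ha0] at ha1

theorem free_chk : ∀ i < 24, ∃ k ∈ kList, offOne (wA k (top i)) (wB k (top i)) = true := by decide +kernel

theorem pair_chk : ∀ i < 24, ∀ j < i, ∃ k ∈ kList,
    (wA k (top i) = 0 ∧ wB k (top i) = 0 ∧ offOne (wA k (top j)) (wB k (top j)) = true) ∨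
    (wA k (top j) = 0 ∧ wB k (top j) = 0 ∧ offOne (wA k (top i)) (wB k (top i)) = true) := by
  decide +kernel

theorem short_chk : ∀ i < 24, (blk i).length = 2 → ∃ k ∈ kList, wA k (top i) = 1 ∧ wB k (top i) = 0 := by
  decide +kernel

/-- the fixed roots -/
def fixL : List ℕ := [0, 1, 2, 6, 8, 11, 18, 20, 24, 25, 27, 32, 39, 44, 46, 47, 51, 53, 60, 63, 65, 69, 70, 71]

theorem fixL_chk : ∀ r ∈ fixL, r < chevE6.nroots ∧ foldE62.r r = r ∧ symE6.e r = 1 := by decide +kernel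

set_option synthInstance.maxSize 4096 in
-- a nested decidable statement
theorem long_chk : ∀ i < 24, (blk i).length = 1 → top i ∈ fixL ∧ blk i = [(top i, 1)] ∧
    ∃ r ∈ fixL, ∃ s ∈ fixL, s ≠ r ∧ s ≠ auxE6.neg r ∧
      (auxE6.terms r s = [(top i, 1, 1, 1)] ∨ auxE6.terms r s = [(top i, -1, 1, 1)]) ∧
      commPair chevE6 auxE6 r (top i) = true ∧ commPair chevE6 auxE6 s (top i) = true ∧
      (∃ k ∈ kList, wA k (top i) = 0 ∧ wB k (top i) = 0 ∧ offOne (wA k r) (wB k r) = true) ∧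
      ∃ k ∈ kList, wA k (top i) = 0 ∧ wB k (top i) = 0 ∧ offOne (wA k s) (wB k s) = true := by
  decide +kernel

theorem blk_len : ∀ i < 24, (blk i).length = 1 ∨ (blk i).length = 2 := by decide +kernel

theorem blk_lt : ∀ i < 24, top i < chevE6.nroots ∧ ∀ c ∈ blk i, c.1 < chevE6.nroots := by decide +kernel

variable [Fintype K]

/-- the element of a block -/
noncomputable def mI (hσ : ∀ x, σ x = x ^ q) (hK : Fintype.card K = q ^ 2) (i : ℕ) (hi : i < 24) (t : K) :
    ↥(E62.tw σ).fix :=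
  @dite _ (Pd σ (blk i) t) (Classical.propDecidable _) (fun h => ⟨_, M_fix hσ hK (series_chk i hi).1 h⟩) fun _ => 1

theorem mI_val (hσ : ∀ x, σ x = x ^ q) (hK : Fintype.card K = q ^ 2) {i : ℕ} (hi : i < 24) {t : K}
    (ht : Pd σ (blk i) t) : ((mI hσ hK i hi t : ↥(E62.tw σ).fix) : GL chevE6.Idx K) = M σ (blk i) t := by
  rw [mI, dif_pos ht]

variable (hσ : ∀ x, σ x = x ^ q) (hK : Fintype.card K = q ^ 2)

omit [Fintype K] in
theorem pd_add {o : List (ℕ × ℤ)} {s t : K} (hs : Pd σ o s) (ht : Pd σ o t) : Pd σ o (s + t) :=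
  fun h => by rw [map_add, hs h, ht h]

include hσ hK in
theorem pd_wk (lam : Kˣ) (k : Fin 6 → ℤ) {i : ℕ} (hi : i < 24) {t : K} (ht : Pd σ (blk i) t) :
    Pd σ (blk i) ((wk σ lam k (top i) : K) * t) := by
  intro h
  obtain ⟨hmem, -, -⟩ := long_chk i hi h
  obtain ⟨hr, hrr, -⟩ := fixL_chk _ hmem
  rw [map_mul, ht h, ← wk_r lam (E62.invol hσ hK) k hr, hrr]

include hσ hK in
theorem blk_conj (lam : Kˣ) (k : Fin 6 → ℤ) {i : ℕ} (hi : i < 24) {t : K} (ht : Pd σ (blk i) t) :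
    tk σ (E62.invol hσ hK) lam k * mI hσ hK i hi t * (tk σ (E62.invol hσ hK) lam k)⁻¹ =
      mI hσ hK i hi ((wk σ lam k (top i) : K) * t) := by
  have hinv := E62.invol hσ hK
  refine Subtype.ext ?_
  push_cast
  rw [mI_val hσ hK hi ht, mI_val hσ hK hi (pd_wk hσ hK lam k hi ht),
    show ((tk σ hinv lam k : ↥(E62.tw σ).fix) : GL chevE6.Idx K) = tor chevE6 auxE6 (cvk σ lam k) from rfl]
  have hc := (series_chk i hi).1
  have hlt := (blk_lt i hi).2
  revert hc hlt
  unfold top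
  generalize blk i = o
  intro hc hlt
  rcases o with _ | ⟨⟨a, s₁⟩, _ | ⟨⟨b, s⟩, _ | o⟩⟩ <;>
    simp only [blkChk, Bool.and_eq_true, decide_eq_true_eq, Bool.false_eq_true] at hc
  · have ha := hlt _ List.mem_cons_self
    simp only [M, TwSub.orbE, mul_one, List.headD_cons]
    rw [tor_conj hinv lam k ha]
    congr 1
    ring
  · have ha := hlt _ List.mem_cons_self
    have hb := hlt (b, s) (by simp)
    obtain ⟨rfl, hc⟩ := hc
    simp only [pairChk2, Bool.and_eq_true, decide_eq_true_eq] at hc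
    have hrab : foldE62.r a = b := hc.1.1.1.1.1.1
    simp only [M, TwSub.orbE, mul_one, List.headD_cons, map_mul]
    rw [show ∀ x y z : GL chevE6.Idx K, x * (y * z) * x⁻¹ = x * y * x⁻¹ * (x * z * x⁻¹) from
      fun x y z => by group, tor_conj hinv lam k ha, tor_conj hinv lam k hb, ← hrab, wk_r lam hinv k ha]
    congr 2 <;> ring

theorem Ug_zero (σ : K →+* K) : Ug σ 0 = (chevE6.posUnipotent K).subgroupOf (E62.tw σ).fix := by
  rw [Ug, ← UL_posRoots (F := K) g₆]
  congr 1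
  exact le_antisymm (UL_mono g₆ fun r hr => (rest_zero r).1 hr) (UL_mono g₆ fun r hr => (rest_zero r).2 hr)

omit [Fintype K] in
theorem Ug_last (σ : K →+* K) : Ug σ 24 = ⊥ := by
  rw [eq_bot_iff]
  intro y hy
  have h : (y : GL chevE6.Idx K) ∈ UL K g₆ (rest 24) := hy
  rw [rest_end, UL_nil, Subgroup.mem_bot] at h
  exact Subtype.ext h

omit [Fintype K] in
theorem Ug_anti {i : ℕ} (hi : i < 24) : Ug σ (i + 1) ≤ Ug σ i := fun _ hy =>
  UL_mono g₆ (fun r hr => by rw [(series_chk i hi).2.1]; exact List.mem_append_right _ hr) hy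

omit [Fintype K] in
theorem Ug_comm {i : ℕ} (hi : i < 24) : ∀ x ∈ Ug σ 0, ∀ y ∈ Ug σ i, ⁅x, y⁆ ∈ Ug σ (i + 1) :=
  fun x hx y hy => by
    show ((⁅x, y⁆ : ↥(E62.tw σ).fix) : GL chevE6.Idx K) ∈ UL K g₆ _
    rw [show ((⁅x, y⁆ : ↥(E62.tw σ).fix) : GL chevE6.Idx K) = ⁅(x : GL chevE6.Idx K), (y : GL chevE6.Idx K)⁆ from
      map_commutatorElement (E62.tw σ).fix.subtype x y]
    exact comm_UL stdE6 (series_chk i hi).2.2 hx hy

include hσ hK in
theorem mI_mem {i : ℕ} (hi : i < 24) {t : K} (ht : Pd σ (blk i) t) : mI hσ hK i hi t ∈ Ug σ i := by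
  refine Subgroup.mem_subgroupOf.2 ?_
  rw [mI_val hσ hK hi ht, (series_chk i hi).2.1]
  exact UL_mono g₆ (fun r hr => List.mem_append_left _ hr) (M_mem_UL _ t)

include hσ hK in
theorem mI_add {i : ℕ} (hi : i < 24) {s t : K} (hs : Pd σ (blk i) s) (ht : Pd σ (blk i) t) :
    mI hσ hK i hi (s + t) = mI hσ hK i hi s * mI hσ hK i hi t := by
  refine Subtype.ext ?_
  push_cast
  rw [mI_val hσ hK hi hs, mI_val hσ hK hi ht, mI_val hσ hK hi (pd_add hs ht), M_add (series_chk i hi).1]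

include hσ hK in
theorem blk_split {i : ℕ} (hi : i < 24) {v : ↥(E62.tw σ).fix} (hv : v ∈ Ug σ i) :
    ∃ s, Pd σ (blk i) s ∧ (mI hσ hK i hi s)⁻¹ * v ∈ Ug σ (i + 1) := by
  have hv' : (v : GL chevE6.Idx K) ∈ UL K g₆ (rest i) := hv
  rw [(series_chk i hi).2.1] at hv'
  obtain ⟨t, ht, w, hw, e⟩ := blk_coord hσ hK (series_chk i hi).1 hv' v.2
  refine ⟨t, ht, Subgroup.mem_subgroupOf.2 ?_⟩
  push_cast
  rw [mI_val hσ hK hi ht, e, inv_mul_cancel_left]
  exact hw

include hσ hK in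
theorem blk_twist (lam : Kˣ) (k : Fin 6 → ℤ) {i : ℕ} (hi : i < 24) {s : K} (hs : Pd σ (blk i) s) :
    ⁅tk σ (E62.invol hσ hK) lam k, mI hσ hK i hi s⁆ =
      mI hσ hK i hi ((wk σ lam k (top i) : K) * s - s) := by
  have hd : Pd σ (blk i) ((wk σ lam k (top i) : K) * s - s) := fun h => by
    rw [map_sub, pd_wk hσ hK lam k hi hs h, hs h]
  rw [commutatorElement_def, blk_conj hσ hK lam k hi hs, mul_inv_eq_iff_eq_mul, ← mI_add hσ hK hi hd hs,
    sub_add_cancel]

include hσ hK in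
theorem blk_comm_mem (lam : Kˣ) (k : Fin 6 → ℤ) {i : ℕ} (hi : i < 24) {s : K} (hs : Pd σ (blk i) s)
    {w : ↥(E62.tw σ).fix} (hw : w ∈ Ug σ (i + 1)) :
    ⁅tk σ (E62.invol hσ hK) lam k, mI hσ hK i hi s * w⁆ ∈ Ug σ (i + 1) ↔
      mI hσ hK i hi ((wk σ lam k (top i) : K) * s - s) ∈ Ug σ (i + 1) := by
  set t := tk σ (E62.invol hσ hK) lam k
  have h1 : ⁅t, mI hσ hK i hi s * w⁆ = ⁅t, mI hσ hK i hi s⁆ * (mI hσ hK i hi s * ⁅t, w⁆ * (mI hσ hK i hi s)⁻¹) := by
    simp only [commutatorElement_def]; group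
  have htw : t * w * t⁻¹ ∈ Ug σ (i + 1) := by
    show ((t * w * t⁻¹ : ↥(E62.tw σ).fix) : GL chevE6.Idx K) ∈ UL K g₆ _
    push_cast
    refine conj_UL (fun r hr u => ?_) hw
    have hmem : r ∈ rest 0 := by
      have key : ∀ i < 25, ∀ r ∈ rest i, r ∈ rest 0 := by decide +kernel
      exact key _ (by omega) r hr
    rw [show ((t : ↥(E62.tw σ).fix) : GL chevE6.Idx K) = tor chevE6 auxE6 (cvk σ lam k) from rfl,
      tor_conj (E62.invol hσ hK) lam k (posRoots_mem.1 ((rest_zero r).1 hmem)).1]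
    exact xG_mem_UL g₆ hr _
  have h0 : mI hσ hK i hi s ∈ Ug σ 0 := by
    have key : ∀ i < 25, ∀ r ∈ rest i, r ∈ rest 0 := by decide +kernel
    exact UL_mono g₆ (key i (by omega)) (mI_mem hσ hK hi hs)
  have h2 : mI hσ hK i hi s * ⁅t, w⁆ * (mI hσ hK i hi s)⁻¹ ∈ Ug σ (i + 1) := by
    have hz : ⁅t, w⁆ ∈ Ug σ (i + 1) := by
      rw [commutatorElement_def]; exact mul_mem htw (inv_mem hw)
    rcases Nat.lt_or_ge (i + 1) 24 with h | h
    · have := mul_mem (Ug_anti h (Ug_comm h _ h0 _ hz)) hz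
      rwa [commutatorElement_def, inv_mul_cancel_right] at this
    · rw [show i + 1 = 24 by omega, Ug_last, Subgroup.mem_bot] at hz ⊢
      rw [hz]; group
  rw [h1, Subgroup.mul_mem_cancel_right _ h2, blk_twist hσ hK lam k hi hs]

include hσ hK in
theorem blk_free (lam : Kˣ) (k : Fin 6 → ℤ) {i : ℕ} (hi : i < 24) (hne : wk σ lam k (top i) ≠ 1) :
    Free (Ug σ i) (Ug σ (i + 1)) (tk σ (E62.invol hσ hK) lam k) := by
  intro v hv h
  obtain ⟨s, hs, hw⟩ := blk_split hσ hK hi hv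
  rw [show v = mI hσ hK i hi s * ((mI hσ hK i hi s)⁻¹ * v) from (mul_inv_cancel_left _ _).symm] at h ⊢
  rw [blk_comm_mem hσ hK lam k hi hs hw] at h
  have hd : Pd σ (blk i) ((wk σ lam k (top i) : K) * s - s) := fun h => by
    rw [map_sub, pd_wk hσ hK lam k hi hs h, hs h]
  have h' : M σ (blk i) ((wk σ lam k (top i) : K) * s - s) ∈ UL K g₆ (rest (i + 1)) := by
    rw [← mI_val hσ hK hi hd]; exact h
  have h'' := blk_inj (series_chk i hi).1 h'
  rw [← sub_one_mul, mul_eq_zero, sub_eq_zero] at h''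
  have hs0 : s = 0 := h''.resolve_left fun e => hne (Units.ext e)
  subst hs0
  have : mI hσ hK i hi (0 : K) = 1 := Subtype.ext (by rw [mI_val hσ hK hi hs]; exact TwSub.orbE_zero g₆ _)
  rw [this, inv_one, one_mul] at hw
  rw [this, inv_one, one_mul, one_mul]
  exact hw

include hσ hK in
theorem blk_triv (lam : Kˣ) (k : Fin 6 → ℤ) {i : ℕ} (hi : i < 24) (he : wk σ lam k (top i) = 1) :
    Triv (Ug σ i) (Ug σ (i + 1)) (tk σ (E62.invol hσ hK) lam k) := by
  intro v hv
  obtain ⟨s, hs, hw⟩ := blk_split hσ hK hi hv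
  rw [show v = mI hσ hK i hi s * ((mI hσ hK i hi s)⁻¹ * v) from (mul_inv_cancel_left _ _).symm,
    blk_comm_mem hσ hK lam k hi hs hw, he, Units.val_one, one_mul, sub_self]
  have h0 : Pd σ (blk i) (0 : K) := fun _ => map_zero σ
  have : mI hσ hK i hi (0 : K) = 1 := Subtype.ext (by rw [mI_val hσ hK hi h0]; exact TwSub.orbE_zero g₆ _)
  rw [this]
  exact one_mem _

/-- a root element of a fixed root -/
noncomputable def mR (σ : K →+* K) (r : ℕ) (t : K) : ↥(E62.tw σ).fix :=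
  @dite _ (xG g₆ r t ∈ (E62.tw σ).fix) (Classical.propDecidable _) (fun h => ⟨_, h⟩) fun _ => 1

omit [Fintype K] in
theorem mR_val {r : ℕ} (hr : r ∈ fixL) {t : K} (ht : σ t = t) :
    ((mR σ r t : ↥(E62.tw σ).fix) : GL chevE6.Idx K) = xG g₆ r t := by
  obtain ⟨h1, h2, h3⟩ := fixL_chk r hr
  rw [mR, dif_pos (E62.fix_root h1 h2 h3 ht)]

variable {Γ : Type*} [Group Γ] {π : Γ →* ↥(E62.tw σ).fix}

include hσ hK in
theorem lc_long (hc : π.ker ≤ Subgroup.center Γ) (hsurj : Function.Surjective π) {lam : Kˣ}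
    (hlam : ∀ a b : ℤ, lam ^ a * Units.map σ.toMonoidHom lam ^ b = 1 → ((q : ℤ) ^ 2 - 1) ∣ a + q * b)
    (hq : 3 ≤ q) {i : ℕ} (hi : i < 24) (hl : (blk i).length = 1) {s t : K}
    (hs : Pd σ (blk i) s) (ht : Pd σ (blk i) t) : LC π (mI hσ hK i hi s) (mI hσ hK i hi t) := by
  have hinv := E62.invol hσ hK
  obtain ⟨hT, hblk, r, hr, r', hr', hne, hneg, hterms, hcr, hcr', ⟨k, -, hkA, hkB, hk⟩, k', -, hkA', hkB', hk'⟩ :=
    long_chk i hi hl
  set T := top i
  have hval : ∀ {x : K}, Pd σ (blk i) x → mI hσ hK i hi x = mR σ T x := fun {x} hx => Subtype.ext (by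
    rw [mI_val hσ hK hi hx, mR_val hT (hx hl), hblk]
    simp [M, TwSub.orbE])
  rw [hval hs, hval ht]
  have hs' := hs hl
  have ht' := ht hl
  obtain ⟨l1, hrr, -⟩ := fixL_chk r hr
  obtain ⟨l2, hrr', -⟩ := fixL_chk r' hr'
  obtain ⟨lT, -, -⟩ := fixL_chk T hT
  have hfree : ∀ {x : ℕ}, x ∈ fixL → commPair chevE6 auxE6 x T = true → ∀ {kk : Fin 6 → ℤ},
      wA kk T = 0 → wB kk T = 0 → offOne (wA kk x) (wB kk x) = true → ∀ u, σ u = u →
      LC π (mR σ x u) (mR σ T t) := by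
    intro x hx hcx kk hA hB hoff u hu
    obtain ⟨lx, hxx, -⟩ := fixL_chk x hx
    have hw1 : (wk σ lam kk x : K) ≠ 1 := fun e => offOne_ne hq hoff (hlam _ _ (Units.ext e))
    have hwT : wk σ lam kk T = 1 := by simp [wk, hA, hB]
    have hwf : σ (wk σ lam kk x : K) = wk σ lam kk x := by rw [← wk_r lam hinv kk lx, hxx]
    set v := u / ((wk σ lam kk x : K) - 1)
    have hv : σ v = v := by simp [v, map_div₀, hu, hwf]
    have e : mR σ x u = ⁅tk σ hinv lam kk, mR σ x v⁆ := by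
      refine Subtype.ext ?_
      rw [mR_val hx hu, commutatorElement_def]
      push_cast
      rw [mR_val hx hv, show ((tk σ hinv lam kk : ↥(E62.tw σ).fix) : GL chevE6.Idx K) =
        tor chevE6 auxE6 (cvk σ lam kk) from rfl, tor_conj hinv lam kk lx, xG_inv, xG_add, ← sub_eq_add_neg,
        ← sub_one_mul, mul_div_cancel₀ _ (sub_ne_zero.2 hw1)]
    rw [e]
    refine lc_twist hc hsurj ?_ ?_
    · refine Subtype.ext ?_
      push_cast
      rw [mR_val hx hv, mR_val hT ht']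
      exact (CfsgLib.Chev.commute_xG stdE6 hcx v t).eq
    · refine Subtype.ext ?_
      push_cast
      rw [mR_val hT ht', show ((tk σ hinv lam kk : ↥(E62.tw σ).fix) : GL chevE6.Idx K) =
        tor chevE6 auxE6 (cvk σ lam kk) from rfl, ← mul_inv_eq_iff_eq_mul, tor_conj hinv lam kk lT, hwT,
        Units.val_one, one_mul]
  have key : ∀ (z : ℤ), auxE6.terms r r' = [(T, z, 1, 1)] → z * z = 1 → LC π (mR σ T s) (mR σ T t) := by
    intro z hz hzz
    have hzK : (z : K) * z = 1 := by exact_mod_cast congrArg (Int.cast (R := K)) hzz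
    have h1 : σ ((z : K) * s) = z * s := by rw [map_mul, map_intCast, hs']
    have h2 : σ (-1 : K) = -1 := by simp
    have e : mR σ T s = ⁅mR σ r' (-1 : K), mR σ r ((z : K) * s)⁆ := by
      refine Subtype.ext ?_
      rw [show ((⁅mR σ r' (-1 : K), mR σ r ((z : K) * s)⁆ : ↥(E62.tw σ).fix) : GL chevE6.Idx K) =
        ⁅((mR σ r' (-1 : K) : ↥(E62.tw σ).fix) : GL chevE6.Idx K),
          ((mR σ r ((z : K) * s) : ↥(E62.tw σ).fix) : GL chevE6.Idx K)⁆ from
        map_commutatorElement (E62.tw σ).fix.subtype _ _, mR_val hr' h2, mR_val hr h1, mR_val hT hs']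
      have e := KnownB.ChevField.comm_word stdE6 l1 l2 hne hneg (-((z : K) * s)) (1 : K)
      rw [hz] at e
      simp only [List.map_cons, List.map_nil, List.prod_cons, List.prod_nil, mul_one, neg_neg, pow_one] at e
      rw [← mul_assoc, hzK, one_mul] at e
      rw [commutatorElement_def, xG_inv, xG_inv, neg_neg, mul_assoc _ (xG g₆ r' 1), e, ← mul_assoc,
        show xG g₆ r' (-1) * xG g₆ r ((z : K) * s) * (xG g₆ r (-((z : K) * s)) * xG g₆ r' 1) =
          xG g₆ r' (-1) * (xG g₆ r ((z : K) * s) * xG g₆ r (-((z : K) * s))) * xG g₆ r' 1 by group,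
        xG_add, add_neg_cancel, xG_zero, mul_one, xG_add, neg_add_cancel, xG_zero, one_mul]
    rw [e]
    exact lc_comm hc hsurj (hfree hr' hcr' hkA' hkB' hk' _ h2) (hfree hr hcr hkA hkB hk _ h1)
  rcases hterms with h | h
  · exact key 1 h (by norm_num)
  · exact key (-1) h (by norm_num)

include hσ hK in
theorem lc_short (hc : π.ker ≤ Subgroup.center Γ) (hsurj : Function.Surjective π) {lam : Kˣ}
    (hgen : ∀ u : Kˣ, ∃ n : ℤ, lam ^ n = u) (hq : 3 ≤ q) {i : ℕ} (hi : i < 24) (hl : (blk i).length = 2)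
    (s t : K) : LC π (mI hσ hK i hi s) (mI hσ hK i hi t) := by
  have hP : ∀ x : K, Pd σ (blk i) x := fun x h => by omega
  refine lc_scale hc hsurj (by rw [hK]; nlinarith) (mI hσ hK i hi) (fun a b => mI_add hσ hK hi (hP a) (hP b))
    (fun u hu => ?_) s t
  obtain ⟨k, -, hA, hB⟩ := short_chk i hi hl
  obtain ⟨n, hn⟩ := hgen (Units.mk0 u hu)
  refine ⟨tk σ (E62.invol hσ hK) lam fun j => n * k j, fun a => ?_⟩
  rw [blk_conj hσ hK lam _ hi (hP a)]
  have eA : wA (fun j => n * k j) (top i) = n := by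
    rw [show wA (fun j => n * k j) (top i) = n * wA k (top i) by simp only [wA]; ring, hA, mul_one]
  have eB : wB (fun j => n * k j) (top i) = 0 := by
    rw [show wB (fun j => n * k j) (top i) = n * wB k (top i) by simp only [wB]; ring, hB, mul_zero]
  simp [wk, eA, eB, hn]

include hσ hK in
/-- the image of a block is a subgroup -/
noncomputable def img {i : ℕ} (hi : i < 24) : Subgroup ↥(E62.tw σ).fix where
  carrier := {y | ∃ s, Pd σ (blk i) s ∧ y = mI hσ hK i hi s}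
  one_mem' := ⟨0, fun _ => map_zero σ, Subtype.ext (by
    rw [mI_val hσ hK hi (fun _ => map_zero σ)]; exact (TwSub.orbE_zero g₆ _).symm)⟩
  mul_mem' := by
    rintro _ _ ⟨s, hs, rfl⟩ ⟨t, ht, rfl⟩
    exact ⟨s + t, pd_add hs ht, (mI_add hσ hK hi hs ht).symm⟩
  inv_mem' := by
    rintro _ ⟨s, hs, rfl⟩
    have hn : Pd σ (blk i) (-s) := fun h => by rw [map_neg, hs h]
    refine ⟨-s, hn, inv_eq_of_mul_eq_one_right ?_⟩
    rw [← mI_add hσ hK hi hs hn, add_neg_cancel]
    exact Subtype.ext (by rw [mI_val hσ hK hi (fun _ => map_zero σ)]; exact TwSub.orbE_zero g₆ _)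

include hσ hK in
/-- **the kernel meets the commutator of the preimage of the unipotent part trivially** -/
theorem p_part (hq : 3 ≤ q) [Finite Γ] (hc : π.ker ≤ Subgroup.center Γ) (hsurj : Function.Surjective π) :
    ∀ x ∈ ⁅((chevE6.posUnipotent K).subgroupOf (E62.tw σ).fix).comap π,
      ((chevE6.posUnipotent K).subgroupOf (E62.tw σ).fix).comap π⁆, x ∈ π.ker → x = 1 := by
  classical
  have hinv := E62.invol hσ hK
  obtain ⟨lam, hlam⟩ := IsCyclic.exists_generator (α := Kˣ)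
  have hord : (orderOf lam : ℤ) = (q : ℤ) ^ 2 - 1 := by
    rw [orderOf_eq_card_of_forall_mem_zpowers hlam, Nat.card_units, Nat.card_eq_fintype_card, hK,
      Nat.cast_sub (Nat.one_le_pow _ _ (by omega))]
    push_cast; ring
  have hdvd : ∀ a b : ℤ, lam ^ a * Units.map σ.toMonoidHom lam ^ b = 1 → ((q : ℤ) ^ 2 - 1) ∣ a + q * b := by
    intro a b h
    have e : Units.map σ.toMonoidHom lam = lam ^ (q : ℤ) := by
      rw [zpow_natCast]; exact Units.ext (by simp [hσ])
    rw [e, ← _root_.zpow_mul, ← _root_.zpow_add] at h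
    rw [← hord]
    exact orderOf_dvd_iff_zpow_eq_one.2 h
  let T : Subgroup ↥(E62.tw σ).fix := (chevE6.diagonalSubgroup K).subgroupOf (E62.tw σ).fix
  have hTm : ∀ k, tk σ hinv lam k ∈ T := fun k => by
    show (tor chevE6 auxE6 (cvk σ lam k) : GL chevE6.Idx K) ∈ chevE6.diagonalSubgroup K
    rw [diagonalSubgroup_eq g₆]; exact ⟨_, rfl⟩
  have hne : ∀ k r, offOne (wA k r) (wB k r) = true → wk σ lam k r ≠ 1 := fun k r h e =>
    offOne_ne hq h (hdvd _ _ e)
  have hone : ∀ k r, wA k r = 0 → wB k r = 0 → wk σ lam k r = 1 := fun k r hA hB => by simp [wk, hA, hB]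
  rw [← Ug_zero]
  refine eq_one_of_mem π hsurj hc 24 (Ug σ) (Ug_last σ) (fun i hi => Ug_anti hi)
    (fun i hi => Ug_comm hi) T ?_ ?_ ?_ ?_
  · intro x hx y hy
    have hx' : (x : GL chevE6.Idx K) ∈ chevE6.diagonalSubgroup K := hx
    have hy' : (y : GL chevE6.Idx K) ∈ chevE6.diagonalSubgroup K := hy
    rw [diagonalSubgroup_eq g₆] at hx' hy'
    obtain ⟨c, ex⟩ := hx'
    obtain ⟨c', ey⟩ := hy'
    refine Subtype.ext ?_
    push_cast
    rw [← ex, ← ey, ← map_mul, mul_comm, map_mul]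
  · intro i hi t ht v hv
    have ht' : (t : GL chevE6.Idx K) ∈ chevE6.diagonalSubgroup K := ht
    rw [diagonalSubgroup_eq g₆] at ht'
    obtain ⟨c, et⟩ := ht'
    show ((t * v * t⁻¹ : ↥(E62.tw σ).fix) : GL chevE6.Idx K) ∈ UL K g₆ _
    push_cast
    refine conj_UL (fun r hr x => ?_) hv
    have key : ∀ i < 25, ∀ r ∈ rest i, r ∈ rest 0 := by decide +kernel
    rw [← et, tor_conj_xG g₆ _ (posRoots_mem.1 ((rest_zero r).1 (key i (by omega) r hr))).1]
    exact xG_mem_UL g₆ hr _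
  · intro i hi
    obtain ⟨k, -, hk⟩ := free_chk i hi
    exact ⟨_, hTm k, blk_free hσ hK lam k hi (hne _ _ hk)⟩
  · intro i hi j hj
    rcases hj.lt_or_eq with hj | rfl
    · have hj' : j < 24 := by omega
      obtain ⟨k, -, ⟨a1, a2, a3⟩ | ⟨a1, a2, a3⟩⟩ := pair_chk i hi j hj
      · exact Or.inl ⟨_, hTm k, blk_triv hσ hK lam k hi (hone _ _ a1 a2),
          blk_free hσ hK lam k hj' (hne _ _ a3)⟩
      · exact Or.inr (Or.inl ⟨_, hTm k, blk_triv hσ hK lam k hj' (hone _ _ a1 a2),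
          blk_free hσ hK lam k hi (hne _ _ a3)⟩)
    · refine Or.inr (Or.inr ⟨img hσ hK hi, img hσ hK hi, ?_, ?_, ?_⟩)
      · intro v hv
        obtain ⟨s, hs, hw⟩ := blk_split hσ hK hi hv
        exact ⟨_, ⟨s, hs, rfl⟩, mI_mem hσ hK hi hs, hw⟩
      · intro v hv
        obtain ⟨s, hs, hw⟩ := blk_split hσ hK hi hv
        exact ⟨_, ⟨s, hs, rfl⟩, mI_mem hσ hK hi hs, hw⟩
      · rintro x y ⟨s, hs, e⟩ ⟨t, ht, e'⟩
        rcases blk_len j hi with hl | hl
        · exact lc_long hσ hK hc hsurj hdvd hq hi hl hs ht x y e e'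
        · exact lc_short hσ hK hc hsurj (fun u => hlam u) hq hi hl s t x y e e'

end CfsgLib.Chev.E62Mult
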