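import Cfsg.Agent.Lib.Chev.OrdList
import Cfsg.Agent.Lib.Chev.TwOut.E6

/-!
Coordinates in the unipotent part of a twisted group of type E6 along the orbits of positive roots, and the
weights of a torus given by exponents.
-/

set_option autoImplicit false
set_option maxRecDepth 100000

namespace CfsgLib.Chev.E62Mult

open Cfsg.Lie Matrix CfsgLib.Chev CfsgLib.Chev.OrdList CfsgLib.Chev.TwSub

variable {K : Type*} [Field K] {q : ℕ} {σ : K →+* K}

local notation "g₆" => stdE6.good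

/-- the orbits of positive roots by height, with signs -/
def blks : List (List (ℕ × ℤ)) := [[(36, 1), (56, 1)], [(37, 1), (42, 1)], [(39, 1)], [(46, 1)], [(38, 1), (57, -1)], [(40, 1), (43, -1)], [(47, 1)], [(41, 1), (58, 1)], [(44, 1)], [(48, 1), (50, 1)], [(45, 1), (59, -1)], [(49, 1), (61, -1)], [(51, 1)], [(52, 1), (62, -1)], [(53, 1)], [(60, 1)], [(54, 1), (64, -1)], [(63, 1)], [(55, 1), (67, -1)], [(65, 1)], [(66, 1), (68, 1)], [(69, 1)], [(70, 1)], [(71, 1)]]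

/-- the roots from a block on -/
def rest (i : ℕ) : List ℕ := (((blks.drop i).map fun o => o.map Prod.fst)).flatten

/-- the exponents of the torus elements used -/
def kList : List (Fin 6 → ℤ) := [![0, 0, 0, 0, 0, -1], ![-1, 0, 0, 0, 0, 0], ![0, 0, 0, -1, 0, 0], ![-1, 0, 0, 1, 0, 0], ![0, 0, -1, 0, 0, 0], ![0, 0, 0, -1, 0, -1], ![-1, 0, 0, 0, -1, 0], ![-1, -1, 0, 0, 0, 0], ![-1, 0, 0, -1, 0, 0], ![0, 0, 0, -1, -1, 0], ![0, 0, -1, 0, 0, -1], ![0, 0, 0, 0, -1, 0], ![0, -1, 0, 0, 0, 0], ![0, 0, 0, 0, 1, 0], ![0, 0, 0, 1, 0, 0], ![1, 0, 0, 0, 0, 0]]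

/-- the first exponent of a weight -/
noncomputable def wA (k : Fin 6 → ℤ) (r : ℕ) : ℤ :=
  k 0 * auxE6.cart 0 r + k 1 * auxE6.cart 5 r + k 2 * auxE6.cart 1 r + k 3 * auxE6.cart 2 r +
    k 4 * auxE6.cart 4 r + k 5 * auxE6.cart 3 r

/-- the second exponent of a weight -/
noncomputable def wB (k : Fin 6 → ℤ) (r : ℕ) : ℤ :=
  k 1 * auxE6.cart 0 r + k 0 * auxE6.cart 5 r + k 2 * auxE6.cart 1 r + k 4 * auxE6.cart 2 r +
    k 3 * auxE6.cart 4 r + k 5 * auxE6.cart 3 r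

/-- a weight different from one for every `q ≥ 3` -/
def offOne (a b : ℤ) : Bool :=
  decide ((a.natAbs ≤ 2 ∧ b.natAbs ≤ 2 ∧ (a + 3 * b) % 8 ≠ 0) ∨ (a = 0 ∧ 1 ≤ b.natAbs ∧ b.natAbs ≤ 7) ∨
    (b = 0 ∧ 1 ≤ a.natAbs ∧ a.natAbs ≤ 7))

/-- the check of a fixed root before a stable list -/
noncomputable def oneChk (r : ℕ) (L : List ℕ) : Bool :=
  decide (r < chevE6.nroots ∧ foldE62.r r = r ∧ symE6.e r = 1 ∧ chevE6.IsPosRoot r ∧ r ∉ L) &&
    ordChk chevE6 auxE6 (r :: L) && sepChk chevE6 auxE6 L &&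
    decide (∀ s ∈ L, chevE6.IsPosRoot s ∧ foldE62.r s ∈ L)

/-- the check of an orbit of two roots before a stable list -/
noncomputable def pairChk2 (a b : ℕ) (s : ℤ) (L : List ℕ) : Bool :=
  decide (foldE62.r a = b ∧ foldE62.r b = a ∧ chevE6.IsPosRoot a ∧ chevE6.IsPosRoot b ∧
    (symE6.e b = 1 ∨ symE6.e b = -1)) &&
    orbOK chevE6 auxE6 foldE62 symE6.e 2 [(a, 1), (b, s)] && ordChk chevE6 auxE6 (a :: b :: L) &&
    sepChk chevE6 auxE6 (b :: L) && sepChk chevE6 auxE6 L &&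
    decide (a ∉ b :: L ∧ b ∉ L ∧ ∀ s ∈ L, chevE6.IsPosRoot s ∧ foldE62.r s ∈ L)

/-- the check of a block -/
noncomputable def blkChk (o : List (ℕ × ℤ)) (L : List ℕ) : Bool :=
  match o with
  | [(r, s)] => decide (s = 1) && oneChk r L
  | [(a, s₁), (b, s)] => decide (s₁ = 1) && pairChk2 a b s L
  | _ => false

/-- an orbit element -/
noncomputable abbrev M (σ : K →+* K) (o : List (ℕ × ℤ)) (t : K) : GL chevE6.Idx K := orbE g₆ σ o t

/-- the parameters of an orbit element -/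
def Pd (σ : K →+* K) (o : List (ℕ × ℤ)) (t : K) : Prop := o.length = 1 → σ t = t

/-- the torus vector -/
def cvk (σ : K →+* K) (lam : Kˣ) (k : Fin 6 → ℤ) : Fin chevE6.rank → Kˣ :=
  (![lam ^ k 0 * Units.map σ.toMonoidHom lam ^ k 1,
     (lam * Units.map σ.toMonoidHom lam) ^ k 2,
     lam ^ k 3 * Units.map σ.toMonoidHom lam ^ k 4,
     (lam * Units.map σ.toMonoidHom lam) ^ k 5,
     lam ^ k 4 * Units.map σ.toMonoidHom lam ^ k 3,
     lam ^ k 1 * Units.map σ.toMonoidHom lam ^ k 0] : Fin 6 → Kˣ)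

/-- the weight -/
noncomputable def wk (σ : K →+* K) (lam : Kˣ) (k : Fin 6 → ℤ) (r : ℕ) : Kˣ :=
  lam ^ wA k r * Units.map σ.toMonoidHom lam ^ wB k r

theorem chi_cvk (lam : Kˣ) (k : Fin 6 → ℤ) (r : ℕ) :
    chi chevE6 auxE6 (cvk σ lam k) r = wk σ lam k r := by
  show ∏ i : Fin 6, cvk σ lam k (E62.ix i) ^ auxE6.cart i.val r = _
  simp only [Fin.prod_univ_six, wk, wA, wB]
  show (lam ^ k 0 * _) ^ auxE6.cart 0 r * ((lam * _) ^ k 2) ^ auxE6.cart 1 r *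
    (lam ^ k 3 * _) ^ auxE6.cart 2 r * ((lam * _) ^ k 5) ^ auxE6.cart 3 r *
    (lam ^ k 4 * _) ^ auxE6.cart 4 r * (lam ^ k 1 * _) ^ auxE6.cart 5 r = _
  simp only [mul_zpow, ← _root_.zpow_mul, _root_.zpow_add]
  apply Additive.ofMul.injective
  simp only [ofMul_mul]
  abel

theorem cvk_fix (hinv : ∀ x, σ (σ x) = x) (lam : Kˣ) (k : Fin 6 → ℤ) :
    cvk σ lam k ∈ (E62.tw σ).thetaFix := by
  have hv : Units.map σ.toMonoidHom (Units.map σ.toMonoidHom lam) = lam := Units.ext (hinv _)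
  have e : ∀ a b : ℤ, σ ((lam ^ a * Units.map σ.toMonoidHom lam ^ b : Kˣ) : K) =
      ((lam ^ b * Units.map σ.toMonoidHom lam ^ a : Kˣ) : K) := by
    intro a b
    show ((Units.map σ.toMonoidHom (lam ^ a * Units.map σ.toMonoidHom lam ^ b) : Kˣ) : K) = _
    rw [map_mul, map_zpow, map_zpow, hv, mul_comm]
  refine (E62.thetaFix_iff _).2 ⟨?_, ?_, e _ _, e _ _, e _ _, e _ _⟩ <;>
  · show σ (((lam * _) ^ _ : Kˣ) : K) = (((lam * _) ^ _ : Kˣ) : K)
    rw [mul_zpow, e]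

theorem maps_list {L : List ℕ} (hL : ∀ s ∈ L, chevE6.IsPosRoot s ∧ foldE62.r s ∈ L) {y : GL chevE6.Idx K}
    (hy : y ∈ UL K g₆ L) : ∃ z ∈ UL K g₆ L, (E62.tw σ).Maps y z :=
  (E62.tw σ).maps_UP (P := fun r => r ∈ L) (Q := fun r => r ∈ L) (fun r hr => (hL r hr).1.1)
    (fun r hr => (hL r hr).2) hy

theorem phi_eq_zero {r : ℕ} (he : symE6.e r = 1 ∨ symE6.e r = -1) {t : K} (ht : (E62.tw σ).phi r t = 0) :
    t = 0 := by
  have h1 : (symE6.e r : K) * σ t = 0 := ht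
  rcases he with e | e <;> rw [e] at h1 <;> simpa using h1

/-- a fixed element in the list after the head of an orbit is after the orbit -/
theorem pair_zero {a b : ℕ} {s : ℤ} {L : List ℕ} (hc : pairChk2 a b s L = true)
    {y : GL chevE6.Idx K} (hy : y ∈ UL K g₆ (b :: L)) (hf : y ∈ (E62.tw σ).fix) : y ∈ UL K g₆ L := by
  simp only [pairChk2, Bool.and_eq_true, decide_eq_true_eq] at hc
  obtain ⟨⟨⟨⟨⟨⟨-, rba, pa, pb, eb⟩, -⟩, ho⟩, hs1⟩, -⟩, na, -, hL⟩ := hc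
  obtain ⟨T, w, hw, rfl⟩ := exists_head stdE6 (ord_tail ho).1 hy
  obtain ⟨w', hw', hm⟩ := maps_list (σ := σ) hL hw
  have h1 := Twist.Maps.fun_eq _ hf (Twist.Maps.mul _ ((E62.tw σ).maps_xG pb.1 T) hm)
  rw [rba] at h1
  have hsub : ∀ x ∈ b :: L, chevE6.IsPosRoot x := fun x hx => by
    rcases List.mem_cons.1 hx with rfl | hx
    exacts [pb, (hL x hx).1]
  have hz : (E62.tw σ).phi b T = 0 := by
    refine eq_zero_of_mem stdE6 hs1 pa na ?_ hsub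
    rw [show xG g₆ a ((E62.tw σ).phi b T) = xG g₆ b T * w * w'⁻¹ by rw [h1]; group]
    have hw2 : ∀ {z}, z ∈ UL K g₆ L → z ∈ UL K g₆ (b :: L) := fun hz =>
      UL_mono g₆ (fun r hr => List.mem_cons_of_mem _ hr) hz
    exact mul_mem (mul_mem (xG_mem_UL g₆ List.mem_cons_self _) (hw2 hw)) (inv_mem (hw2 hw'))
  rw [phi_eq_zero eb hz, xG_zero, one_mul]
  exact hw

theorem one_fix {r : ℕ} {L : List ℕ} (hc : oneChk r L = true) {t : K} (ht : σ t = t) :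
    xG g₆ r t ∈ (E62.tw σ).fix := by
  simp only [oneChk, Bool.and_eq_true, decide_eq_true_eq] at hc
  obtain ⟨⟨⟨⟨hr, hrr, he, -, -⟩, -⟩, -⟩, -⟩ := hc
  exact E62.fix_root hr hrr he ht

variable [Fintype K] (hσ : ∀ x, σ x = x ^ q) (hK : Fintype.card K = q ^ 2)

include hσ hK in
theorem M_fix {o : List (ℕ × ℤ)} {L : List ℕ} (hc : blkChk o L = true) {t : K} (ht : Pd σ o t) :
    M σ o t ∈ (E62.tw σ).fix := by
  rcases o with _ | ⟨⟨a, s₁⟩, _ | ⟨⟨b, s⟩, _ | o⟩⟩ <;>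
    simp only [blkChk, Bool.and_eq_true, decide_eq_true_eq, Bool.false_eq_true] at hc
  · obtain ⟨rfl, hc⟩ := hc
    simpa [M, orbE] using one_fix hc (ht rfl)
  · obtain ⟨rfl, hc⟩ := hc
    simp only [pairChk2, Bool.and_eq_true, decide_eq_true_eq] at hc
    exact orbE_fix (TwOut.E6.fam hσ hK).G hc.1.1.1.1.2 t

omit [Fintype K] in
theorem M_mem_UL (o : List (ℕ × ℤ)) : ∀ t : K, M σ o t ∈ UL K g₆ (o.map Prod.fst) := by
  induction o with
  | nil => intro t; exact one_mem _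
  | cons c o ih =>
    intro t
    obtain ⟨r, s⟩ := c
    exact mul_mem (xG_mem_UL g₆ List.mem_cons_self _)
      (UL_mono g₆ (fun x hx => List.mem_cons_of_mem _ hx) (ih _))

omit [Fintype K] in
theorem M_add {o : List (ℕ × ℤ)} {L : List ℕ} (hc : blkChk o L = true) (t u : K) :
    M σ o t * M σ o u = M σ o (t + u) := by
  rcases o with _ | ⟨⟨a, s₁⟩, _ | ⟨⟨b, s⟩, _ | o⟩⟩ <;>
    simp only [blkChk, Bool.and_eq_true, decide_eq_true_eq, Bool.false_eq_true] at hc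
  · exact orbE_add stdE6 _ (List.pairwise_singleton _ _) t u
  · obtain ⟨rfl, hc⟩ := hc
    simp only [pairChk2, Bool.and_eq_true, decide_eq_true_eq] at hc
    exact orbE_add stdE6 _ (orbOK_pairwise hc.1.1.1.1.2) t u

include hσ hK in
/-- the coordinate of a block -/
theorem blk_coord {o : List (ℕ × ℤ)} {L : List ℕ} (hc : blkChk o L = true) {y : GL chevE6.Idx K}
    (hy : y ∈ UL K g₆ (o.map Prod.fst ++ L)) (hf : y ∈ (E62.tw σ).fix) :
    ∃ t, Pd σ o t ∧ ∃ v ∈ UL K g₆ L, y = M σ o t * v := by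
  rcases o with _ | ⟨⟨a, s₁⟩, _ | ⟨⟨b, s⟩, _ | o⟩⟩ <;>
    simp only [blkChk, Bool.and_eq_true, decide_eq_true_eq, Bool.false_eq_true] at hc
  · obtain ⟨rfl, hc⟩ := hc
    simp only [oneChk, Bool.and_eq_true, decide_eq_true_eq] at hc
    obtain ⟨⟨⟨⟨hr, hrr, he, hp, hn⟩, ho⟩, hsep⟩, hL⟩ := hc
    obtain ⟨t, v, hv, rfl⟩ := exists_head stdE6 ho hy
    refine ⟨t, fun _ => ?_, v, hv, by simp [M, orbE]⟩
    obtain ⟨v', hv', hm⟩ := maps_list (σ := σ) hL hv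
    have h1 := Twist.Maps.fun_eq _ hf (Twist.Maps.mul _ ((E62.tw σ).maps_xG hr t) hm)
    rw [hrr, E62.phi_eq he] at h1
    have h2 : xG g₆ a (-t + σ t) = v * v'⁻¹ := by
      rw [← xG_add, ← xG_inv, eq_mul_inv_iff_mul_eq, mul_assoc, inv_mul_eq_iff_eq_mul, h1]
    exact (neg_add_eq_zero.1 (eq_zero_of_mem stdE6 hsep hp hn (h2 ▸ mul_mem hv (inv_mem hv'))
      fun s hs => (hL s hs).1)).symm
  · obtain ⟨rfl, hc⟩ := hc
    have hc2 : blkChk [(a, 1), (b, s)] L = true := by simp [blkChk, hc]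
    have hc' := hc
    simp only [pairChk2, Bool.and_eq_true, decide_eq_true_eq] at hc'
    obtain ⟨⟨⟨⟨-, ho⟩, -⟩, -⟩, -⟩ := hc'
    obtain ⟨t, v, hv, rfl⟩ := exists_head stdE6 ho hy
    have hP : Pd σ [(a, 1), (b, s)] t := fun h => by simp at h
    refine ⟨t, hP, (M σ [(a, 1), (b, s)] t)⁻¹ * (xG g₆ a t * v), ?_, by rw [mul_inv_cancel_left]⟩
    refine pair_zero hc ?_ (mul_mem (inv_mem (M_fix hσ hK hc2 hP)) hf)
    rw [show M σ [(a, 1), (b, s)] t = xG g₆ a t * xG g₆ b ((s : K) * σ t) by simp [M, orbE],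
      show (xG g₆ a t * xG g₆ b ((s : K) * σ t))⁻¹ * (xG g₆ a t * v) = (xG g₆ b ((s : K) * σ t))⁻¹ * v by group]
    exact mul_mem (inv_mem (xG_mem_UL g₆ List.mem_cons_self _)) hv

omit [Fintype K] in
/-- an orbit element after its block is trivial -/
theorem blk_inj {o : List (ℕ × ℤ)} {L : List ℕ} (hc : blkChk o L = true) {t : K}
    (ht : M σ o t ∈ UL K g₆ L) : t = 0 := by
  rcases o with _ | ⟨⟨a, s₁⟩, _ | ⟨⟨b, s⟩, _ | o⟩⟩ <;>
    simp only [blkChk, Bool.and_eq_true, decide_eq_true_eq, Bool.false_eq_true] at hc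
  · obtain ⟨rfl, hc⟩ := hc
    simp only [oneChk, Bool.and_eq_true, decide_eq_true_eq] at hc
    obtain ⟨⟨⟨⟨-, -, -, hp, hn⟩, -⟩, hsep⟩, hL⟩ := hc
    exact eq_zero_of_mem stdE6 hsep hp hn (by simpa [M, orbE] using ht) fun x hx => (hL x hx).1
  · obtain ⟨rfl, hc⟩ := hc
    simp only [pairChk2, Bool.and_eq_true, decide_eq_true_eq] at hc
    obtain ⟨⟨⟨⟨⟨⟨-, -, pa, pb, -⟩, -⟩, -⟩, hs1⟩, -⟩, na, -, hL⟩ := hc
    refine eq_zero_of_mem stdE6 hs1 pa na ?_ fun x hx => ?_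
    · have e : xG g₆ a t = M σ [(a, 1), (b, s)] t * (xG g₆ b ((s : K) * σ t))⁻¹ := by
        simp [M, orbE]
      rw [e]
      exact mul_mem (UL_mono g₆ (fun r hr => List.mem_cons_of_mem _ hr) ht)
        (inv_mem (xG_mem_UL g₆ List.mem_cons_self _))
    · rcases List.mem_cons.1 hx with rfl | hx
      exacts [pb, (hL x hx).1]

end CfsgLib.Chev.E62Mult
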