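import Cfsg.Agent.Lib.Steinberg.EGroups
import Cfsg.Agent.Lib.Steinberg.Multiplier
import Cfsg.Agent.Lib.Chev.Twist.Fam.E6
import Cfsg.Agent.Lib.Chev.TwOut.E6

/-!
The triple cover of a twisted group of type E6 inside the Steinberg group.
-/

set_option autoImplicit false
set_option maxRecDepth 100000

namespace CfsgLib.Chev.E62Mult

open Cfsg.Lie Matrix CfsgLib.Chev CfsgLib.Steinberg
open scoped commutatorElement

variable {K : Type*} [Field K] {q : ℕ} {σ : K →+* K}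

/-- the lifted root elements -/
noncomputable abbrev PC (K : Type*) [Field K] : Pre stdE6.good K (chevE6.SteinbergCover K) :=
  presPre stdE6 (le_refl (chevE6.steinbergRelsAB K)) (relsAB_subset K)

theorem dataC : Data stdE6 (PC K) :=
  presData stdE6 splitE6 (le_refl (chevE6.steinbergRelsAB K)) (relsAB_subset K)

/-- the lifted words -/
def gens (σ : K →+* K) : Set (chevE6.SteinbergCover K) :=
  {y | (∃ t, σ t = t ∧ ∃ r ∈ [e6p2, e6m2, e6p4, e6m4], y = (PC K).X r t) ∨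
    ∃ t, ∃ rs ∈ [(e6p1, e6p6), (e6m1, e6m6), (e6p3, e6p5), (e6m3, e6m5)],
      y = (PC K).X (rs : ℕ × ℕ).1 t * (PC K).X rs.2 (σ t)}

/-- the cover -/
noncomputable def cov (σ : K →+* K) : Subgroup (chevE6.SteinbergCover K) := Subgroup.closure (gens σ)

theorem gen_lt : (∀ r ∈ [e6p2, e6m2, e6p4, e6m4], r < chevE6.nroots) ∧
    ∀ p ∈ [(e6p1, e6p6), (e6m1, e6m6), (e6p3, e6p5), (e6m3, e6m5)],
      (p : ℕ × ℕ).1 < chevE6.nroots ∧ p.2 < chevE6.nroots ∧ p.2 ≠ p.1 ∧ p.2 ≠ auxE6.neg p.1 ∧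
        auxE6.terms p.1 p.2 = [] := by
  decide +kernel

theorem commute_X {r s : ℕ} (hr : r < chevE6.nroots) (hs : s < chevE6.nroots) (hne : s ≠ r)
    (hn : s ≠ auxE6.neg r) (ht : auxE6.terms r s = []) (t u : K) :
    Commute ((PC K).X r t) ((PC K).X s u) := by
  have h := (dataC (K := K)).st r hr s hs hne hn t u
  simp only [Pre.W, tword, ht, List.map_nil, List.prod_nil, mul_one] at h
  exact h.symm

theorem map_cov (hσ : ∀ x, σ x = x ^ q) :
    (cov σ).map (PC K).π = twistedE6 K q := by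
  rw [cov, MonoidHom.map_closure, twistedE6, genSubgroup_eq stdE6.good]
  congr 1
  obtain ⟨h1, h2⟩ := gen_lt
  ext y
  constructor
  · rintro ⟨_, ⟨t, ht, r, hr, rfl⟩ | ⟨t, rs, hrs, rfl⟩, rfl⟩
    · exact ⟨[(r, t)], Or.inl ⟨t, by rw [← hσ, ht], r, hr, rfl⟩, by
        simp [(PC K).proj r (h1 r hr)]⟩
    · exact ⟨[(rs.1, t), (rs.2, t ^ q)], Or.inr ⟨t, rs, hrs, rfl⟩, by
        simp [(PC K).proj _ (h2 rs hrs).1, (PC K).proj _ (h2 rs hrs).2.1, hσ]⟩
  · rintro ⟨w, ⟨t, ht, r, hr, rfl⟩ | ⟨t, rs, hrs, rfl⟩, rfl⟩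
    · exact ⟨_, Or.inl ⟨t, by rw [hσ]; exact ht, r, hr, rfl⟩, by simp [(PC K).proj r (h1 r hr)]⟩
    · exact ⟨_, Or.inr ⟨t, rs, hrs, rfl⟩, by
        simp [(PC K).proj _ (h2 rs hrs).1, (PC K).proj _ (h2 rs hrs).2.1, hσ]⟩

theorem pair_data : ∀ p ∈ [((0 : ℕ), (5 : ℕ)), (2, 4)],
    ∀ a ∈ [chevE6.simple p.1, auxE6.neg (chevE6.simple p.1)],
    ∀ b ∈ [chevE6.simple p.2, auxE6.neg (chevE6.simple p.2)],
      a < chevE6.nroots ∧ b < chevE6.nroots ∧ b ≠ a ∧ b ≠ auxE6.neg a ∧ auxE6.terms a b = [] := by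
  decide +kernel

theorem pair_gen : ∀ p ∈ [((0 : ℕ), (5 : ℕ)), (2, 4)],
    (chevE6.simple p.1, chevE6.simple p.2) ∈ [(e6p1, e6p6), (e6m1, e6m6), (e6p3, e6p5), (e6m3, e6m5)] ∧
    (auxE6.neg (chevE6.simple p.1), auxE6.neg (chevE6.simple p.2)) ∈
      [(e6p1, e6p6), (e6m1, e6m6), (e6p3, e6p5), (e6m3, e6m5)] := by
  decide +kernel

theorem NN_pair_mem {i k : ℕ} (hp : (i, k) ∈ [((0 : ℕ), (5 : ℕ)), (2, 4)]) (t : K) :
    NN (PC K) i t * NN (PC K) k (σ t) ∈ cov σ := by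
  obtain ⟨g1, g2⟩ := pair_gen (i, k) hp
  have hd := pair_data (i, k) hp
  set a := chevE6.simple i
  set a' := auxE6.neg a
  set b := chevE6.simple k
  set b' := auxE6.neg b
  have cm : ∀ x ∈ [a, a'], ∀ y ∈ [b, b'], ∀ u v : K, Commute ((PC K).X x u) ((PC K).X y v) := by
    intro x hx y hy u v
    obtain ⟨h1, h2, h3, h4, h5⟩ := hd x hx y hy
    exact commute_X h1 h2 h3 h4 h5 u v
  have e : NN (PC K) i t * NN (PC K) k (σ t) =
      ((PC K).X a t * (PC K).X b (σ t)) * ((PC K).X a' (-t⁻¹) * (PC K).X b' (σ (-t⁻¹))) *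
        ((PC K).X a t * (PC K).X b (σ t)) := by
    show (PC K).X a t * (PC K).X a' (-t⁻¹) * (PC K).X a t *
      ((PC K).X b (σ t) * (PC K).X b' (-(σ t)⁻¹) * (PC K).X b (σ t)) = _
    rw [map_neg, map_inv₀]
    have c1 := (cm a' (by simp) b (by simp) (-t⁻¹) (σ t)).eq
    have c2 := (cm a (by simp) b (by simp) t (σ t)).eq
    have c3 := (cm a (by simp) b' (by simp) t (-(σ t)⁻¹)).eq
    simp only [mul_assoc]
    congr 1
    rw [← mul_assoc ((PC K).X a t) ((PC K).X b (σ t)), c2, mul_assoc,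
      ← mul_assoc ((PC K).X a' (-t⁻¹)), c1, mul_assoc, ← mul_assoc ((PC K).X a t) ((PC K).X b' _), c3]
    simp only [mul_assoc]
    rw [c2]
  rw [e]
  have m1 : (PC K).X a t * (PC K).X b (σ t) ∈ cov σ :=
    Subgroup.subset_closure (Or.inr ⟨t, (a, b), g1, rfl⟩)
  exact mul_mem (mul_mem m1 (Subgroup.subset_closure (Or.inr ⟨-t⁻¹, (a', b'), g2, rfl⟩))) m1

theorem HH_pair_mem {i k : ℕ} (hp : (i, k) ∈ [((0 : ℕ), (5 : ℕ)), (2, 4)]) (t : K) :
    HH (PC K) i t * HH (PC K) k (σ t) ∈ cov σ := by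
  have hd := pair_data (i, k) hp
  have cm : ∀ x ∈ [chevE6.simple i, auxE6.neg (chevE6.simple i)],
      ∀ y ∈ [chevE6.simple k, auxE6.neg (chevE6.simple k)], ∀ u v : K,
        Commute ((PC K).X x u) ((PC K).X y v) := by
    intro x hx y hy u v
    obtain ⟨h1, h2, h3, h4, h5⟩ := hd x hx y hy
    exact commute_X h1 h2 h3 h4 h5 u v
  have c : Commute (NN (PC K) i (-1)) (NN (PC K) k (σ t)) := by
    unfold NN
    have hx : ∀ x ∈ [chevE6.simple i, auxE6.neg (chevE6.simple i)], ∀ u : K,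
        Commute ((PC K).X x u) (NN (PC K) k (σ t)) := fun x hx u =>
      Commute.mul_right (Commute.mul_right (cm x hx _ (by simp) u _) (cm x hx _ (by simp) u _))
        (cm x hx _ (by simp) u _)
    exact Commute.mul_left (Commute.mul_left (hx _ (by simp) _) (hx _ (by simp) _)) (hx _ (by simp) _)
  have e : HH (PC K) i t * HH (PC K) k (σ t) =
      (NN (PC K) i t * NN (PC K) k (σ t)) * (NN (PC K) i (-1) * NN (PC K) k (σ (-1))) := by
    rw [map_neg, map_one]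
    show NN (PC K) i t * NN (PC K) i (-1) * (NN (PC K) k (σ t) * NN (PC K) k (-1)) = _
    simp only [mul_assoc]
    rw [← mul_assoc (NN (PC K) i (-1)), c.eq, mul_assoc]
  rw [e]
  exact mul_mem (NN_pair_mem hp t) (NN_pair_mem hp (-1))

variable [Fintype K]

theorem mulHH : MulHH (PC K) := fun _ hi s t => HH_mul dataC hi s t

theorem tor8_injective : Function.Injective (tor chevE8 auxE8 : (Fin chevE8.rank → Kˣ) →* GL chevE8.Idx K) :=
  tor_injective stdE8.good ((by decide : (![1, 1, 1, 1, 1, 1, 1, 1] : Fin 8 → ℕ) = fun _ => 1) ▸ smithE8)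

/-- **the cover**: a stem extension with kernel of order three -/
theorem exists_cover {p : ℕ} [Fact p.Prime] [CharP K p] (hσ : ∀ x, σ x = x ^ q) (hK : Fintype.card K = q ^ 2)
    (hperf : _root_.commutator ↥(twistedE6 K q) = ⊤) (h3 : 3 ∣ q + 1) :
    ∃ (Γ : Subgroup (chevE6.SteinbergCover K)) (_ : Finite Γ) (π : Γ →* ↥(twistedE6 K q)),
      Cfsg.IsStemExtension π ∧ Nat.card π.ker = 3 := by
  haveI hfin := finite_cover (F := K) stdE6 splitE6
  have hmem : ∀ y : cov σ, (PC K).π y ∈ twistedE6 K q := fun y => map_cov hσ ▸ ⟨y, y.2, rfl⟩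
  let π : cov σ →* ↥(twistedE6 K q) := ((PC K).π.comp (cov σ).subtype).codRestrict _ hmem
  have hker : ∀ y : cov σ, y ∈ π.ker ↔ (y : chevE6.SteinbergCover K) ∈ (PC K).π.ker := fun y => by
    rw [MonoidHom.mem_ker, MonoidHom.mem_ker, Subtype.ext_iff]
    rfl
  have hsurj : Function.Surjective π := fun g => by
    obtain ⟨y, hy, e⟩ : (g : GL chevE6.Idx K) ∈ (cov σ).map (PC K).π := (map_cov hσ).symm ▸ g.2
    exact ⟨⟨y, hy⟩, Subtype.ext e⟩
  have hq := E62.two_le hK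
  have hg : Nat.gcd 3 (q ^ 2 - 1) = 3 :=
    Nat.gcd_eq_left (h3.trans ⟨q - 1, by rw [← Nat.sq_sub_sq, one_pow]⟩)
  have hcard : Nat.card (PC K).π.ker = 3 := by
    rw [← center_eq_ker dataC]
    rw [card_center stdE6 splitE6 stdE8 emb68 tor8_injective smithE6, hK]
    show (∏ i : Fin 6, Nat.gcd ((![1, 1, 1, 1, 1, 3] : Fin 6 → ℕ) i) (q ^ 2 - 1)) = _
    rw [Fin.prod_univ_six]
    show Nat.gcd 1 _ * Nat.gcd 1 _ * Nat.gcd 1 _ * Nat.gcd 1 _ * Nat.gcd 1 _ * Nat.gcd 3 _ = _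
    rw [hg, Nat.gcd_one_left]
  -- an element of order three
  have hu : Nat.card Kˣ = q ^ 2 - 1 := by rw [Nat.card_units, Nat.card_eq_fintype_card, hK]
  obtain ⟨a, ha⟩ := exists_prime_orderOf_dvd_card' (G := Kˣ) 3 (by
    rw [hu]; exact Nat.gcd_eq_left_iff_dvd.1 hg)
  have ha3 : a ^ 3 = 1 := by rw [← ha]; exact pow_orderOf_eq_one a
  have hsa : σ (a : K) = ((a ^ 2 : Kˣ) : K) := by
    obtain ⟨m, hm⟩ : ∃ m, q = 3 * m + 2 := ⟨q / 3, by omega⟩
    rw [hσ, hm, pow_add, pow_mul, Units.val_pow_eq_pow_val,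
      show ((a : K) ^ 3) = 1 by rw [← Units.val_pow_eq_pow_val, ha3, Units.val_one], one_pow, one_mul]
  have hsa2 : σ ((a ^ 2 : Kˣ) : K) = (a : K) := by
    rw [Units.val_pow_eq_pow_val, map_pow, hsa, ← Units.val_pow_eq_pow_val, ← pow_mul,
      show a ^ (2 * 2) = a ^ 3 * a from pow_succ a 3, ha3, one_mul]
  let c : Fin chevE6.rank → Kˣ :=
    Pi.mulSingle (E62.ix 0) a * Pi.mulSingle (E62.ix 5) (a ^ 2) *
      (Pi.mulSingle (E62.ix 2) (a ^ 2) * Pi.mulSingle (E62.ix 4) a)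
  set z := torE dataC mulHH c
  have hz : z ∈ cov σ := by
    have e : z = HH (PC K) 0 (a : K) * HH (PC K) 5 (σ a) *
        (HH (PC K) 2 ((a ^ 2 : Kˣ) : K) * HH (PC K) 4 (σ ((a ^ 2 : Kˣ) : K))) := by
      simp only [z, c, map_mul, torE_single, hsa, hsa2]
      rfl
    rw [e]
    exact mul_mem (HH_pair_mem (by simp) _) (HH_pair_mem (by simp) _)
  have hc6 : ∀ k : Fin 6, c (E62.ix k) = (![a, 1, a ^ 2, 1, a, a ^ 2] : Fin 6 → Kˣ) k := by
    intro k
    show (Pi.mulSingle (0 : Fin 6) a * Pi.mulSingle (5 : Fin 6) (a ^ 2) *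
      (Pi.mulSingle (2 : Fin 6) (a ^ 2) * Pi.mulSingle (4 : Fin 6) a) : Fin 6 → Kˣ) k = _
    simp only [Pi.mul_apply, Pi.mulSingle_apply]
    fin_cases k <;> simp
  have hzk : (PC K).π z = 1 := by
    rw [π_torE, tor_eq_one_iff stdE6.good]
    funext k
    have key : ∀ k : Fin 6, ∏ i : Fin 6,
        c (E62.ix i) ^ cartanM chevE6 auxE6 (E62.ix i) (E62.ix k) = 1 := by
      intro k
      simp only [Fin.prod_univ_six, E62.cartan_eq, E62.cm, hc6]
      fin_cases k <;> simp <;> (try (rw [← ha3]; group)) <;>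
        (try simp [_root_.zpow_neg, zpow_ofNat, ha3])
    exact key k
  have hz1 : z ≠ 1 := by
    intro e
    have h0 : c = 1 := torE_injective stdE6 stdE8 emb68 tor8_injective splitE6 mulHH
      (e.trans (map_one _).symm)
    have h1 := hc6 0
    rw [h0] at h1
    have h1' : (1 : Kˣ) = a := h1
    rw [← h1', orderOf_one] at ha
    norm_num at ha
  have hkc : π.ker ≤ Subgroup.center (cov σ) := fun y hy => Subgroup.mem_center_iff.2 fun x => Subtype.ext
    (Subgroup.mem_center_iff.1 (ker_le_center dataC ((hker y).1 hy)) x)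
  have hdvd : Nat.card π.ker ∣ 3 := by
    have := Subgroup.card_dvd_of_injective
      (((cov σ).subtype.comp π.ker.subtype).codRestrict (PC K).π.ker fun y => (hker _).1 y.2)
      (fun y y' e => Subtype.ext (Subtype.ext (congrArg Subtype.val e :)))
    rwa [hcard] at this
  have hk3 : Nat.card π.ker = 3 := by
    rcases (Nat.dvd_prime Nat.prime_three).1 hdvd with h | h
    · exfalso
      haveI := (Nat.card_eq_one_iff_unique.1 h).1
      have := congrArg Subtype.val (Subsingleton.elim (⟨⟨z, hz⟩, (hker _).2 hzk⟩ : π.ker) 1)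
      exact hz1 (congrArg Subtype.val this :)
    · exact h
  refine ⟨cov σ, inferInstance, π, ⟨hsurj, hkc, ?_⟩, hk3⟩
  -- stem
  have hp3 : ¬ p ∣ 3 := by
    intro hd
    have hp : p = 3 := (Nat.prime_dvd_prime_iff_eq Fact.out Nat.prime_three).1 hd
    subst hp
    obtain ⟨n, -, hn⟩ := FiniteField.card K 3
    have : 3 ∣ q := Nat.prime_three.dvd_of_dvd_pow (hK ▸ hn ▸ dvd_pow_self 3 n.ne_zero)
    omega
  have hcm : (_root_.commutator (cov σ)).map π = ⊤ := by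
    rw [commutator_def, Subgroup.map_commutator, Subgroup.map_top_of_surjective π hsurj, ← commutator_def, hperf]
  suffices _root_.commutator (cov σ) = ⊤ by rw [this]; exact le_top
  have hord : ∀ y : cov σ, y ^ 3 ∈ _root_.commutator (cov σ) := by
    intro y
    obtain ⟨d, hd, e⟩ := (show π y ∈ (_root_.commutator (cov σ)).map π by rw [hcm]; exact Subgroup.mem_top _)
    have h1 : d⁻¹ * y ∈ π.ker := by rw [MonoidHom.mem_ker, map_mul, map_inv, e, inv_mul_cancel]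
    have h2 : (d⁻¹ * y) ^ 3 = 1 := by
      have := congrArg Subtype.val (pow_card_eq_one' (x := (⟨_, h1⟩ : π.ker)))
      rwa [hk3] at this
    have h3 : y = d * (d⁻¹ * y) := (mul_inv_cancel_left _ _).symm
    rw [h3, (Commute.symm (Subgroup.mem_center_iff.1 (hkc h1) d)).symm.mul_pow, h2, mul_one]
    exact pow_mem hd 3
  have hX : ∀ (r : ℕ), r < chevE6.nroots → ∀ (t : K), (PC K).X r t ^ p = 1 := by
    intro r hr t
    have : ∀ n : ℕ, (PC K).X r t ^ n = (PC K).X r ((n : K) * t) := by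
      intro n
      induction n with
      | zero => rw [pow_zero, Nat.cast_zero, zero_mul, (PC K).zero hr]
      | succ n ih => rw [pow_succ, ih, (PC K).add r hr]; push_cast; ring_nf
    rw [this, CharP.cast_eq_zero, zero_mul, (PC K).zero hr]
  refine eq_top_iff.2 ?_
  refine le_trans (Subgroup.closure_closure_coe_preimage (k := gens σ)).ge ((Subgroup.closure_le _).2 ?_)
  intro y hy
  change ↥(cov σ) at y
  have hyp : (y : chevE6.SteinbergCover K) ^ p = 1 := by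
    obtain ⟨h1, h2⟩ := gen_lt
    rcases hy with ⟨t, -, r, hr, e⟩ | ⟨t, rs, hrs, e⟩
    · rw [e]; exact hX r (h1 r hr) t
    · obtain ⟨l1, l2, l3, l4, l5⟩ := h2 rs hrs
      rw [e, (commute_X l1 l2 l3 l4 l5 t (σ t)).mul_pow, hX _ l1, hX _ l2, one_mul]
  have hco : Nat.Coprime 3 p := (Nat.coprime_primes Nat.prime_three Fact.out).2 fun e => hp3 (e ▸ dvd_rfl)
  obtain ⟨m, n, e⟩ : ∃ m n : ℤ, (3 : ℤ) * m + p * n = 1 :=
    ⟨_, _, by have := Nat.gcd_eq_gcd_ab 3 p; rw [hco.gcd_eq_one] at this; simpa using this.symm⟩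
  have hy3 := zpow_mem (hord y) m
  have hy' : y ^ p = 1 := Subtype.ext hyp
  rw [← zpow_natCast y 3, ← _root_.zpow_mul] at hy3
  have : y ^ ((3 : ℤ) * m) = y := by
    conv_rhs => rw [← zpow_one y, ← e, _root_.zpow_add, _root_.zpow_mul y (p : ℤ), zpow_natCast y p, hy', _root_.one_zpow, mul_one]
  show y ∈ _root_.commutator (cov σ)
  rwa [show ((3 : ℕ) : ℤ) = 3 from rfl, this] at hy3

end CfsgLib.Chev.E62Mult
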