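import Cfsg.Agent.Lib.Chev.TwOut.LiftDatum
import Cfsg.Agent.Lib.Schur.RankNRankOne
import Cfsg.Agent.Lib.Chev.Twist.FixBN

/-!
The lifting data of a graph twisted group of any relative rank.
-/

set_option autoImplicit false
set_option maxRecDepth 100000
set_option linter.style.haveILetI false

namespace CfsgLib.Chev.TwOut.LiftN

open Cfsg.Lie Matrix CfsgLib.Chev CfsgLib.KnownB.ChevField CfsgLib.KnownB.ChevAutThm CfsgLib.Chev.TwSub
open CfsgLib.Schur
open CfsgLib.Steinberg.R1Data (up dn closure_gens)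
open scoped MatrixGroups

variable {D : ChevalleyDatum} {A : Aux} {F : Type*} [Field F] {h : Std D A} {f : Fold}
  {τ : Twist F h f} {sgn : ℕ → ℤ} {σ : F →+* F} {d : ℕ} {T : List FState}

variable (D A) in
/-- the checks of the braid relations -/
noncomputable def braidN (f : Fold) (M : CoxeterMatrix (Fin f.num)) : Prop :=
  ∀ i j : Fin f.num, i ≠ j →
    SameOn D (wf A (f.flat (((RankN.bW i j (M i j - 1)) ++ [RankN.bC i j (M i j - 1)]).map Fin.val)))
      (wf A (f.flat ((j :: RankN.bW i j (M i j - 1)).map Fin.val))) ∧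
    ∀ a ∈ f.J ((RankN.bC i j (M i j - 1) : Fin f.num) : ℕ), ∃ b ∈ f.J j,
      wf A (f.flat ((RankN.bW i j (M i j - 1)).map Fin.val)) (D.simple a) = D.simple b

theorem coe_word (l : List (Fin f.num)) :
    (((l.map fun s : Fin f.num => (⟨τ.nJ s, τ.nJ_fix s.isLt⟩ : ↥τ.fix)).prod : ↥τ.fix) : GL D.Idx F) =
      nW F h.good (f.flat (l.map Fin.val)) := by
  induction l with
  | nil => simp [Fold.flat, nW]
  | cons a l ih =>
    simp only [List.map_cons, List.prod_cons, Subgroup.coe_mul, ih]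
    simp [Fold.flat, nW, Twist.nJ]

variable (X : Fam τ sgn σ d T)

/-- the homomorphism onto a rank one subgroup -/
noncomputable def phiJ (s : Fin f.num) : SL(2, ↥(domField σ (f.J (s : ℕ)))) →* ↥τ.fix :=
  (orbHom h σ (f.J (s : ℕ)) (X.sepJ (s.isLt))).codRestrict τ.fix
    (orbHom_mem _ X (X.orb _ (s.isLt)))

theorem phiJ_range (s : Fin f.num) :
    (phiJ X s).range = fX τ (s : ℕ) ⊔
      (fX τ (s : ℕ)).map (MulAut.conj (⟨τ.nJ (s : ℕ), τ.nJ_fix (s.isLt)⟩ : ↥τ.fix)).toMonoidHom := by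
  have hj := s.isLt
  set n : ↥τ.fix := ⟨τ.nJ (s : ℕ), τ.nJ_fix hj⟩
  have hs := X.sepJ hj
  have hN : τ.nJ (s : ℕ) = N h.good σ (f.J (s : ℕ)) 1 := X.nJ_eq hj
  have hneg : ∀ t : F, τ.nJ (s : ℕ) * W h.good σ D.simple (f.J (s : ℕ)) t * (τ.nJ (s : ℕ))⁻¹ =
      W h.good σ (negS D A) (f.J (s : ℕ)) (-t) := fun t => by
    rw [hN, N_conj h hs one_ne_zero]; simp
  refine le_antisymm ?_ (sup_le ?_ ?_)
  · rw [MonoidHom.range_eq_map, ← closure_gens, MonoidHom.map_closure, Subgroup.closure_le]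
    have hup : ∀ t, phiJ X s (up t) ∈ fX τ (s : ℕ) := fun t => by
      rw [fX, Subgroup.mem_subgroupOf, mem_V_iff X hj]
      exact ⟨(t : F), mem_domField.1 t.2, (orbHom_up hs t).symm⟩
    have hdn : ∀ t, phiJ X s (dn t) ∈ (fX τ (s : ℕ)).map (MulAut.conj n).toMonoidHom := fun t => by
      refine ⟨phiJ X s (up (-t)), hup _, Subtype.ext ?_⟩
      show τ.nJ (s : ℕ) * orbHom h σ _ hs (up (-t)) * (τ.nJ (s : ℕ))⁻¹ = orbHom h σ _ hs (dn t)
      rw [orbHom_up, orbHom_dn, hneg]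
      simp
    rintro _ ⟨_, ⟨t, rfl⟩ | rfl, rfl⟩
    · exact Subgroup.mem_sup_left (hup t)
    · have e : (CfsgLib.Steinberg.R1Data.wS : SL(2, ↥(domField σ (f.J (s : ℕ))))) =
          up 1 * dn (-1) * up 1 := by
        refine Subtype.ext ?_
        ext p q
        fin_cases p <;> fin_cases q <;>
          simp [SpecialLinearGroup.coe_mul, Matrix.mul_apply, Fin.sum_univ_two]
      rw [e, map_mul, map_mul]
      exact mul_mem (mul_mem (Subgroup.mem_sup_left (hup _)) (Subgroup.mem_sup_right (hdn _)))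
        (Subgroup.mem_sup_left (hup _))
  · intro y hy
    rw [fX, Subgroup.mem_subgroupOf, mem_V_iff X hj] at hy
    obtain ⟨t, ht, e⟩ := hy
    exact ⟨up ⟨t, mem_domField.2 ht⟩, Subtype.ext ((orbHom_up hs _).trans e)⟩
  · rintro _ ⟨y, hy, rfl⟩
    rw [SetLike.mem_coe, fX, Subgroup.mem_subgroupOf, mem_V_iff X hj] at hy
    obtain ⟨t, ht, e⟩ := hy
    refine ⟨dn (-⟨t, mem_domField.2 ht⟩), Subtype.ext ?_⟩
    show orbHom h σ _ hs (dn (-⟨t, mem_domField.2 ht⟩)) = τ.nJ (s : ℕ) * (y : GL D.Idx F) * (τ.nJ (s : ℕ))⁻¹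
    rw [orbHom_dn, ← e, hneg]
    rfl

variable [Fintype F] (p : ℕ) [hp : Fact p.Prime] [CharP F p] (M : CoxeterMatrix (Fin f.num))
  (hM : orbCox D A f (fun i j => M i j) = true) (hcases : ∀ i j, i ≠ j → M i j = 2 ∨ M i j = 3 ∨ M i j = 4)
  (hbraid : braidN D A f M)

set_option maxHeartbeats 800000 in
-- the fields of the datum
/-- the lifting data -/
noncomputable def liftDatum : RankN.DatumN p ↥τ.fix (Fin f.num) where
  U := fU τ
  H := fH τ
  X s := fX τ (s : ℕ)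
  M := M
  M_cases := hcases
  n s := ⟨τ.nJ (s : ℕ), τ.nJ_fix (s.isLt)⟩
  U_pgroup := by
    obtain ⟨Q, hQ⟩ := sylow_U (p := p) X
    rw [show fU τ = (Q : Subgroup ↥τ.fix) from hQ.symm]
    exact Q.2
  X_le s := fun y hy => (τ.V_le_pos _ hy).1
  H_U y hy u hu := by
    show ((y * u * y⁻¹ : ↥τ.fix) : GL D.Idx F) ∈ D.posUnipotent F
    push_cast
    exact borel_conj_pos h.good ((diag_le_borel : D.diagonalSubgroup F ≤ _) hy) hu
  H_X s y hy u hu := by
    have hy' : (y : GL D.Idx F) ∈ D.diagonalSubgroup F := hy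
    rw [diagonalSubgroup_eq h.good] at hy'
    obtain ⟨c, hc⟩ := hy'
    show ((y * u * y⁻¹ : ↥τ.fix) : GL D.Idx F) ∈ τ.V _
    push_cast
    refine Subgroup.mem_inf.2 ⟨?_, mul_mem (mul_mem y.2 u.2) (inv_mem y.2)⟩
    rw [← hc]
    exact conj_UP_le (acts_tor h.good c) (fun r hr => hr.1.1)
      (fun r t hr => xG_mem_UP h.good (P := toNeg D (wf A (f.w (s : ℕ)))) hr t) hu.1
  n_mem s := by
    rw [← phiJ_range X s]
    exact ⟨CfsgLib.Steinberg.R1Data.wS, Subtype.ext ((orbHom_wS _).trans (X.nJ_eq (s.isLt)).symm)⟩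
  n_sq s := τ.nJ_sq (s.isLt)
  n_H s y hy := conj_diag h.good (τ.nJ_mem_monomial (s.isLt)) hy
  split s u hu := by
    have hj := s.isLt
    have g := h.good
    set j := (s : ℕ)
    have hwlt : ∀ r < D.nroots, wf A (f.w j) r < D.nroots := fun r hr => wf_lt g (τ.valid.letters hj) hr
    have hu' : (u : GL D.Idx F) ∈ UL F g D.posRoots := by rw [UL_posRoots g]; exact hu
    obtain ⟨a, ha, b, hb, e⟩ := pos_split h _ hwlt upList_posRoots hu'
    obtain ⟨a', ha', hma⟩ := τ.maps_UP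
      (Q := fun r => D.IsPosRoot r ∧ D.IsPosRoot (wf A (f.w j) r)) (fun r hr => hr.1.1)
      (fun r hr => ⟨τ.valid.r_pos r hr.1, by rw [τ.valid.w_comm j hj r hr.1.1]; exact τ.valid.r_pos _ hr.2⟩) ha
    obtain ⟨b', hb', hmb⟩ := τ.maps_toNeg (τ.valid.letters hj) (τ.valid.w_comm j hj) hb
    have ee : a * b = a' * b' := Twist.Maps.fun_eq τ (e ▸ u.2) (Twist.Maps.mul τ hma hmb)
    have hm : ∀ x ∈ UP F g (fun r => D.IsPosRoot r ∧ D.IsPosRoot (wf A (f.w j) r)),
        τ.nJ j * x * (τ.nJ j)⁻¹ ∈ D.posUnipotent F := fun x hx =>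
      conj_UP_le (τ.nJ_acts hj) (fun r hr => hr.1.1) (fun r t hr => xG_mem_posUnipotent g hr.2 t) hx
    have hm' : ∀ x ∈ UP F g (toNeg D (wf A (f.w j))), τ.nJ j * x * (τ.nJ j)⁻¹ ∈ D.negUnipotent F := fun x hx =>
      conj_UP_le (τ.nJ_acts hj) (fun r hr => hr.1.1) (fun r t hr => xG_mem_negUnipotent g hr.2 t) hx
    have h1 : a'⁻¹ * a = b' * b⁻¹ := by
      rw [eq_mul_inv_iff_mul_eq, mul_assoc, ee, inv_mul_cancel_left]
    have h2 : τ.nJ j * (a'⁻¹ * a) * (τ.nJ j)⁻¹ = 1 := by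
      refine Subgroup.mem_bot.1 ((borel_inf_negUnipotent (F := F) h).le (Subgroup.mem_inf.2
        ⟨pos_le_borel (hm _ (mul_mem (inv_mem ha') ha)), ?_⟩))
      rw [h1]; exact hm' _ (mul_mem hb' (inv_mem hb))
    have haa : a' = a := inv_mul_eq_one.1 (conj_eq_one_iff.1 h2)
    have hbb : b' = b := by rw [haa, inv_mul_cancel] at h1; exact mul_inv_eq_one.1 h1.symm
    rw [haa] at hma
    rw [hbb] at hmb
    refine ⟨⟨b, hmb⟩, Subgroup.mem_inf.2 ⟨hb, hmb⟩, ⟨a, hma⟩, UP_le (fun r t hr => xG_mem_posUnipotent g hr.1 t) ha,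
      hm _ ha, Subtype.ext e⟩
  rankOne s u hu hne := by
    have hj := s.isLt
    have hs := X.sepJ hj
    rw [fX, Subgroup.mem_subgroupOf, mem_V_iff X hj] at hu
    obtain ⟨t, ht, e⟩ := hu
    have ht0 : t ≠ 0 := fun h0 => hne (Subtype.ext (by
      rw [← e, h0, W_zero]; rfl))
    have hti := Dom.inv ht
    have hX : ∀ v, Dom σ (f.J (s : ℕ)) v → ∀ hv : W h.good σ D.simple (f.J (s : ℕ)) v ∈ τ.fix,
        (⟨_, hv⟩ : ↥τ.fix) ∈ fX τ (s : ℕ) := fun v hv _ => by
      rw [fX, Subgroup.mem_subgroupOf, mem_V_iff X hj]; exact ⟨v, hv, rfl⟩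
    have hw := W_fix X.G (Or.inl rfl) (X.orb _ hj) (Dom.neg hti)
    have hh : N h.good σ (f.J (s : ℕ)) t⁻¹ * N h.good σ (f.J (s : ℕ)) (-1) ∈ τ.fix :=
      mul_mem (N_fix X.G (X.orb _ hj) hti) (N_fix X.G (X.orb _ hj) (Dom.neg (Dom.one _)))
    refine ⟨⟨_, hw⟩, hX _ (Dom.neg hti) hw, ⟨_, hh⟩, ?_, ⟨_, hw⟩, hX _ (Dom.neg hti) hw, Subtype.ext ?_⟩
    · show N h.good σ (f.J (s : ℕ)) t⁻¹ * N h.good σ (f.J (s : ℕ)) (-1) ∈ D.diagonalSubgroup F
      have h1 := h_eq (σ := σ) h hs (Units.mk0 t⁻¹ (inv_ne_zero ht0))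
      rw [Units.val_mk0] at h1
      rw [← h1, diagonalSubgroup_eq h.good]
      exact ⟨_, rfl⟩
    · show τ.nJ (s : ℕ) * (u : GL D.Idx F) * (τ.nJ (s : ℕ))⁻¹ =
        W h.good σ D.simple (f.J (s : ℕ)) (-t⁻¹) * (N h.good σ (f.J (s : ℕ)) t⁻¹ * N h.good σ (f.J (s : ℕ)) (-1)) *
          τ.nJ (s : ℕ) * W h.good σ D.simple (f.J (s : ℕ)) (-t⁻¹)
      rw [← e, X.nJ_eq hj, N_conj h hs one_ne_zero, N_eq h hs t⁻¹, ← N_neg_inv h hs 1, inv_inv,
        ← W_inv h (Or.inl rfl) hs]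
      simp only [one_pow, inv_one, one_mul]
      group
  U_inf x hx hxU := by
    have hm : (x : GL D.Idx F) ∈ D.monomialSubgroup F := by
      have hle : Subgroup.closure ((fH τ : Set ↥τ.fix) ∪ Set.range fun s : Fin f.num => (⟨τ.nJ (s : ℕ), τ.nJ_fix (s.isLt)⟩ : ↥τ.fix)) ≤
          (D.monomialSubgroup F).subgroupOf τ.fix := by
        rw [Subgroup.closure_le]
        rintro y (hy | ⟨s, rfl⟩)
        · exact diag_le_monomial_of_good h.good hy
        · exact τ.nJ_mem_monomial (s.isLt)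
      exact hle hx
    exact Subtype.ext (Subgroup.mem_bot.1 ((posUnipotent_inf_diagonal (F := F) h).le (Subgroup.mem_inf.2
      ⟨hxU, mem_diag_of_borel_monomial h (pos_le_borel hxU) hm⟩)))
  positive x hx s := by
    have g := h.good
    have hj := s.isLt
    have hm : (x : GL D.Idx F) ∈ D.monomialSubgroup F := by
      have hle : Subgroup.closure ((fH τ : Set ↥τ.fix) ∪ Set.range fun s : Fin f.num => (⟨τ.nJ (s : ℕ), τ.nJ_fix (s.isLt)⟩ : ↥τ.fix)) ≤
          (D.monomialSubgroup F).subgroupOf τ.fix := by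
        rw [Subgroup.closure_le]
        rintro y (hy | ⟨s, rfl⟩)
        · exact diag_le_monomial_of_good h.good hy
        · exact τ.nJ_mem_monomial (s.isLt)
      exact hle hx
    obtain ⟨e, he, c, hc, ex⟩ := τ.fix_monomial X.S.tab (inv_mem hm) (inv_mem x.2)
    have hc' := (Subgroup.mem_inf.1 hc).1
    rw [diagonalSubgroup_eq g] at hc'
    obtain ⟨cc, hcc⟩ := hc'
    have hl := X.S.tab.letters e he
    have hA : Acts g (x : GL D.Idx F)⁻¹ (id ∘ wf A (f.flat e.word)) := by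
      rw [ex, ← hcc]
      exact (acts_tor g cc).mul (nW_acts g (τ.valid.flat_letters hl))
    obtain ⟨i, hi⟩ := List.exists_mem_of_ne_nil _ (τ.valid.J_ne _ hj)
    obtain ⟨hi1, -⟩ := Fold.Valid.simple_mem g τ.valid hj hi
    have hi1' := hi1.1
    by_cases hp : D.IsPosRoot (wf A (f.flat e.word) (D.simple i))
    · refine Or.inl fun u hu => ?_
      show ((x⁻¹ * u * x : ↥τ.fix) : GL D.Idx F) ∈ D.posUnipotent F
      push_cast
      have h1 := conj_UP_le (K := D.posUnipotent F) hA (fun r hr => hr.1.1)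
        (fun r t hr => xG_mem_posUnipotent g
          (orbit_pos τ.valid g hl hj hi hp hr) t) (hu : _ ∈ τ.V _).1
      rwa [inv_inv] at h1
    · refine Or.inr fun u hu => ?_
      show ((x⁻¹ * (_ * u * _⁻¹) * x : ↥τ.fix) : GL D.Idx F) ∈ D.posUnipotent F
      push_cast
      have hw := τ.valid.flat_letters hl
      have hA2 : Acts g ((x : GL D.Idx F)⁻¹ * τ.nJ (s : ℕ))
          ((id ∘ wf A (f.flat e.word)) ∘ wf A (f.w (s : ℕ))) := hA.mul (τ.nJ_acts hj)
      have h1 := conj_UP_le (K := D.posUnipotent F) hA2 (fun r hr => hr.1.1)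
        (fun r t hr => xG_mem_posUnipotent g ?_ t) (hu : _ ∈ τ.V _).1
      · convert h1 using 1
        rw [Subgroup.coe_subtype]
        group
      -- the image of an inverted root stays positive
      have hlt := wf_lt g (τ.valid.letters hj) hr.1.1
      show D.IsPosRoot (wf A (f.flat e.word) (wf A (f.w (s : ℕ)) r))
      set q := wf A (f.w (s : ℕ)) r
      have hq : toNeg D (wf A (f.w (s : ℕ))) (A.neg q) := by
        have hqn : D.IsPosRoot (A.neg q) := by
          rcases pos_or_pos_neg g hlt with h' | h'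
          · exact absurd h' (not_pos_of_isNeg g hr.2)
          · exact h'
        refine ⟨hqn, ?_⟩
        rw [(wf_rootMap g (τ.valid.letters hj)).map_neg g hlt, τ.valid.w_invol _ hj r hr.1.1]
        exact isNeg_of_not_pos g (g.neg_lt r hr.1.1) fun hh => by
          rcases pos_or_pos_neg g hr.1.1 with h' | h'
          · exact not_pos_neg g h' hh
          · exact not_pos_neg g hr.1 h'
      have hinv := Fold.Valid.inverts_orbit g τ.valid hw
        (fun s hs => Fold.Valid.flat_comm g τ.valid hl hs) hj hi hp hq.1 (not_pos_of_isNeg g hq.2)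
      rw [(wf_rootMap g hw).map_neg g hlt] at hinv
      rcases pos_or_pos_neg g (wf_lt g hw hlt) with h' | h'
      · exact h'
      · exact absurd h' hinv
  H_comm y hy y' hy' := by
    have h1 : (y : GL D.Idx F) ∈ D.diagonalSubgroup F := hy
    have h2 : (y' : GL D.Idx F) ∈ D.diagonalSubgroup F := hy'
    rw [diagonalSubgroup_eq h.good] at h1 h2
    obtain ⟨c, e⟩ := h1
    obtain ⟨c', e'⟩ := h2
    refine Subtype.ext ?_
    push_cast
    rw [← e, ← e', ← map_mul, mul_comm, map_mul]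
  braid_H i j hij := by
    set l := RankN.bW i j (M i j - 1)
    set c := RankN.bC i j (M i j - 1)
    have g := h.good
    have hl : ∀ (L : List (Fin f.num)), Letters D (f.flat (L.map Fin.val)) := fun L =>
      τ.valid.flat_letters fun x hx => by obtain ⟨y, -, rfl⟩ := List.mem_map.1 hx; exact y.isLt
    have h1 := diag_of_sameOn (F := F) h (nW_mem g (hl (l ++ [c]))) (nW_mem g (hl (j :: l)))
      (nW_acts g (hl _)) (nW_acts g (hl _)) (hbraid i j hij).1
    rw [← coe_word (τ := τ), ← coe_word (τ := τ)] at h1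
    rw [fH, Subgroup.mem_subgroupOf]
    convert h1 using 1
    simp only [List.map_append, List.map_cons, List.map_nil, List.prod_append, List.prod_cons, List.prod_nil,
      mul_one]
    push_cast
    group
  braid_X i j hij u hu := by
    set l := RankN.bW i j (M i j - 1)
    set c := RankN.bC i j (M i j - 1)
    have g := h.good
    have hl : ∀ x ∈ l.map Fin.val, x < f.num := fun x hx => by
      obtain ⟨y, -, rfl⟩ := List.mem_map.1 hx; exact y.isLt
    rw [fX, Subgroup.mem_subgroupOf, Subgroup.coe_mul, Subgroup.coe_mul, Subgroup.coe_inv, coe_word]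
    have hu' : (u : GL D.Idx F) ∈ τ.V (f.w c) := hu
    refine Subgroup.mem_inf.2 ⟨?_, mul_mem (mul_mem (τ.nFlat_fix hl) u.2) (inv_mem (τ.nFlat_fix hl))⟩
    obtain ⟨t, ht, ew⟩ := (mem_V_iff X c.isLt _).1 hu'
    rw [← ew]
    have key : ∀ (L : List ℕ), (∀ i ∈ L, i ∈ f.J c) → ∀ v : F,
        W h.good σ D.simple L v ∈ UP F g (fun r => ∃ i ∈ f.J c, D.simple i = r) := by
      intro L
      induction L with
      | nil => intro _ v; simp [one_mem]
      | cons a L ih =>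
        intro hL v
        rw [W_cons]
        exact mul_mem (xG_mem_UP g (P := fun r => ∃ i ∈ f.J c, D.simple i = r) ⟨a, hL a List.mem_cons_self, rfl⟩ v)
          (ih (fun m hm => hL m (List.mem_cons_of_mem _ hm)) _)
    refine conj_UP_le (nW_acts g (τ.valid.flat_letters hl)) (fun r ⟨a, ha, e⟩ => e ▸ g.simple_lt a (τ.valid.J_lt c c.isLt a ha))
      (fun r v ⟨a, ha, e⟩ => ?_) (key _ (fun _ h => h) t)
    obtain ⟨b, hb, e'⟩ := (hbraid i j hij).2 a ha
    rw [← e, e']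
    obtain ⟨h1, h2⟩ := Fold.Valid.simple_mem g τ.valid j.isLt hb
    exact xG_mem_UP g (P := toNeg D (wf A (f.w j)))
      ⟨h1, isNeg_of_not_pos g (wf_lt g (τ.valid.letters j.isLt) h1.1) h2⟩ v
  finM := by
    haveI : Finite (GL D.Idx F) := finite_GL
    obtain ⟨φ, hφ, -⟩ := X.S.coxeter M hM
    exact Finite.of_surjective φ hφ
  index := by
    haveI : Finite (GL D.Idx F) := finite_GL
    obtain ⟨φ, hφ, hk⟩ := X.S.coxeter M hM
    set NN := Subgroup.closure ((fH τ : Set ↥τ.fix) ∪ Set.range fun s : Fin f.num =>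
      (⟨τ.nJ s, τ.nJ_fix s.isLt⟩ : ↥τ.fix))
    have hle : (D.monomialSubgroup F ⊓ τ.fix).subgroupOf τ.fix ≤ NN := by
      show X.S.pair.N ≤ NN
      rw [← X.S.pair.closure_sup, X.S.inf_eq]
      refine sup_le ((Subgroup.closure_le _).2 ?_) fun x hx => Subgroup.subset_closure (Or.inl hx.1)
      rintro s ⟨j, hj, e⟩
      exact Subgroup.subset_closure (Or.inr ⟨⟨j, hj⟩, Subtype.ext e.symm⟩)
    rw [← Nat.card_congr (QuotientGroup.quotientKerEquivOfSurjective φ hφ).toEquiv, hk]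
    refine Nat.card_le_card_of_injective
      (Quotient.map' (fun y => (⟨⟨(y : GL D.Idx F), y.2.2⟩, hle y.2⟩ : ↥NN)) fun a b hab => ?_) ?_
    · rw [QuotientGroup.leftRel_apply] at hab ⊢
      exact (Subgroup.mem_subgroupOf.1 hab).1
    · intro a b
      refine Quotient.inductionOn₂' a b fun a b e => ?_
      refine Quotient.sound' ?_
      have e' := QuotientGroup.leftRel_apply.1 (Quotient.exact' e)
      rw [QuotientGroup.leftRel_apply]
      exact ⟨e', (a⁻¹ * b).2.2⟩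
  gen := by
    rw [eq_top_iff]
    intro y _
    have hle : τ.fix ≤ (⨆ s : Fin f.num, (fX τ (s : ℕ) ⊔ (fX τ (s : ℕ)).map
        (MulAut.conj (⟨τ.nJ s, τ.nJ_fix s.isLt⟩ : ↥τ.fix)).toMonoidHom)).map τ.fix.subtype := by
      refine X.gen.trans ((Subgroup.closure_le _).2 ?_)
      rintro z ⟨j, hj, t, ht, rfl | rfl⟩
      · refine ⟨phiJ X ⟨j, hj⟩ (up ⟨t, mem_domField.2 ht⟩), ?_, orbHom_up _ _⟩
        exact (phiJ_range X ⟨j, hj⟩).le.trans (le_iSup (fun s : Fin f.num => fX τ (s : ℕ) ⊔ (fX τ (s : ℕ)).map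
          (MulAut.conj (⟨τ.nJ s, τ.nJ_fix s.isLt⟩ : ↥τ.fix)).toMonoidHom) ⟨j, hj⟩) ⟨_, rfl⟩
      · refine ⟨phiJ X ⟨j, hj⟩ (dn ⟨t, mem_domField.2 ht⟩), ?_, orbHom_dn _ _⟩
        exact (phiJ_range X ⟨j, hj⟩).le.trans (le_iSup (fun s : Fin f.num => fX τ (s : ℕ) ⊔ (fX τ (s : ℕ)).map
          (MulAut.conj (⟨τ.nJ s, τ.nJ_fix s.isLt⟩ : ↥τ.fix)).toMonoidHom) ⟨j, hj⟩) ⟨_, rfl⟩
    obtain ⟨z, hz, e⟩ := hle y.2
    exact Subtype.ext e.symm ▸ hz

include hM hcases hbraid in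
/-- **the kernel of a central extension prime to the characteristic** -/
theorem card_ker_mul_le {Γ : Type*} [Group Γ] [Finite Γ] (π : Γ →* ↥τ.fix) (hsurj : Function.Surjective π)
    (hc : π.ker ≤ Subgroup.center Γ) (hco : (Nat.card π.ker).Coprime p) (hperf : _root_.commutator Γ = ⊤)
    (hinj : ∀ s : Fin f.num, Function.Injective (orbR1 h σ (f.J s) (X.sepJ s.isLt)).hh) :
    Nat.card π.ker * Nat.card ↥(D.diagonalSubgroup F ⊓ τ.fix) ≤
      ∏ s : Fin f.num, Nat.card (↥(domField σ (f.J s)))ˣ := by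
  haveI : Finite (GL D.Idx F) := finite_GL
  have h1 := RankN.card_ker_mul_le π (liftDatum X p M hM hcases hbraid) hsurj hc hco hperf fun s => by
    haveI : CharP ↥(domField σ (f.J (s : ℕ))) p :=
      (RingHom.charP_iff (domField σ (f.J (s : ℕ))).subtype (Subtype.val_injective) p).2 inferInstance
    haveI : Fintype ↥(domField σ (f.J (s : ℕ))) := Fintype.ofFinite _
    refine RankN.liftL_inf_ker π (liftDatum X p M hM hcases hbraid) s hsurj hc hco (phiJ X s) ?_
      (phiJ_range X s) (RankTwo.primeTo_SL2 p)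
    intro a b e
    exact orbHom_injective X s.isLt (hinj s) (congrArg Subtype.val e)
  have hH : Nat.card ↥(D.diagonalSubgroup F ⊓ τ.fix) = Nat.card ↥(fH τ) :=
    Nat.card_congr
      { toFun := fun y => ⟨⟨y, y.2.2⟩, y.2.1⟩
        invFun := fun y => ⟨y.1.1, y.2, y.1.2⟩
        left_inv := fun _ => rfl
        right_inv := fun _ => rfl }
  rw [hH]
  refine h1.trans (Finset.prod_le_prod' fun s _ => ?_)
  refine Nat.card_le_card_of_surjective (fun u => (⟨phiJ X s (dia2 u), ?_, ?_⟩ :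
    ↥((liftDatum X p M hM hcases hbraid).L s ⊓ (liftDatum X p M hM hcases hbraid).H))) ?_
  · exact (phiJ_range X s).le ⟨_, rfl⟩
  · show orbHom h σ _ (X.sepJ s.isLt) (dia2 u) ∈ D.diagonalSubgroup F
    rw [orbHom_dia, diagonalSubgroup_eq h.good]; exact ⟨_, rfl⟩
  · rintro ⟨y, hy, hyH⟩
    obtain ⟨a, rfl⟩ := (phiJ_range X s).ge hy
    obtain ⟨u, -, e⟩ := orbHom_diag X s.isLt a hyH
    exact ⟨u, Subtype.ext (Subtype.ext ((orbHom_dia _ _).trans e.symm))⟩

end CfsgLib.Chev.TwOut.LiftN
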