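import Cfsg.Agent.Lib.Chev.E62Mult.Lift
import Cfsg.Agent.Lib.Chev.TwOut.E6

/-!
Central extensions of a twisted group of type E6 with kernel prime to the characteristic.
-/

set_option autoImplicit false
set_option maxRecDepth 100000
set_option linter.style.haveILetI false

namespace CfsgLib.Chev.E62Mult

open Cfsg.Lie Matrix CfsgLib.Chev CfsgLib.Chev.TwOut CfsgLib.Chev.TwSub

variable {K : Type*} [Field K] {q : ℕ} {σ : K →+* K}

/-- the Coxeter matrix -/
noncomputable def MF : CoxeterMatrix (Fin foldE62.num) := CoxeterMatrix.F₄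

theorem mF_cases : ∀ i j, i ≠ j → MF i j = 2 ∨ MF i j = 3 ∨ MF i j = 4 := by
  show ∀ i j : Fin 4, i ≠ j → CoxeterMatrix.F₄ i j = 2 ∨ CoxeterMatrix.F₄ i j = 3 ∨ CoxeterMatrix.F₄ i j = 4
  intro i j
  fin_cases i <;> fin_cases j <;> simp [CoxeterMatrix.F₄]

theorem braidF : LiftN.braidN chevE6 auxE6 foldE62 MF := by
  unfold LiftN.braidN SameOn
  decide +kernel

theorem hvec_ix (u : Kˣ) (k : Fin 6) :
    hvec chevE6 σ [1] u (E62.ix k) = (![1, u, 1, 1, 1, 1] : Fin 6 → Kˣ) k ∧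
    hvec chevE6 σ [3] u (E62.ix k) = (![1, 1, 1, u, 1, 1] : Fin 6 → Kˣ) k ∧
    hvec chevE6 σ [2, 4] u (E62.ix k) = (![1, 1, u, 1, Units.map σ.toMonoidHom u, 1] : Fin 6 → Kˣ) k ∧
    hvec chevE6 σ [0, 5] u (E62.ix k) = (![u, 1, 1, 1, 1, Units.map σ.toMonoidHom u] : Fin 6 → Kˣ) k := by
  simp only [hvec, dif_pos (show (1 : ℕ) < chevE6.rank by decide +kernel),
    dif_pos (show (3 : ℕ) < chevE6.rank by decide +kernel), dif_pos (show (2 : ℕ) < chevE6.rank by decide +kernel),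
    dif_pos (show (4 : ℕ) < chevE6.rank by decide +kernel), dif_pos (show (0 : ℕ) < chevE6.rank by decide +kernel),
    dif_pos (show (5 : ℕ) < chevE6.rank by decide +kernel), mul_one]
  refine ⟨?_, ?_, ?_, ?_⟩
  · show (Pi.mulSingle (1 : Fin 6) u : Fin 6 → Kˣ) k = _
    rw [Pi.mulSingle_apply]; fin_cases k <;> simp
  · show (Pi.mulSingle (3 : Fin 6) u : Fin 6 → Kˣ) k = _
    rw [Pi.mulSingle_apply]; fin_cases k <;> simp
  · show (Pi.mulSingle (2 : Fin 6) u * Pi.mulSingle (4 : Fin 6) _ : Fin 6 → Kˣ) k = _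
    rw [Pi.mul_apply, Pi.mulSingle_apply, Pi.mulSingle_apply]; fin_cases k <;> simp
  · show (Pi.mulSingle (0 : Fin 6) u * Pi.mulSingle (5 : Fin 6) _ : Fin 6 → Kˣ) k = _
    rw [Pi.mul_apply, Pi.mulSingle_apply, Pi.mulSingle_apply]; fin_cases k <;> simp

theorem hh_inj {J : List ℕ} (hJ : J ∈ [[1], [3], [2, 4], [0, 5]]) {u : Kˣ}
    (h : (tor chevE6 auxE6 (hvec chevE6 σ J u) : GL chevE6.Idx K) = 1) : u = 1 := by
  obtain ⟨h3, h1, h2, h3', -, -⟩ := E62.ker_form h
  simp only [List.mem_cons, List.not_mem_nil, or_false] at hJ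
  rcases hJ with rfl | rfl | rfl | rfl
  · rwa [(hvec_ix u 1).1] at h1
  · rwa [(hvec_ix u 3).2.1] at h3'
  · rw [(hvec_ix u 2).2.2.1, (hvec_ix u 0).2.2.1] at h2
    simpa using h2
  · rw [(hvec_ix u 2).2.2.2, (hvec_ix u 0).2.2.2] at h2
    rw [(hvec_ix u 0).2.2.2] at h3
    simp only [Matrix.cons_val] at h2 h3
    rwa [pow_succ, ← h2, one_mul] at h3

theorem J_cases : ∀ s < foldE62.num, foldE62.J s ∈ [[1], [3], [2, 4], [0, 5]] := by decide +kernel

variable [Fintype K]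

theorem card_units_dom {J : List ℕ} {n : ℕ} (h : Nat.card {t // Dom σ J t} = n) :
    Nat.card (↥(domField σ J))ˣ = n - 1 := by
  classical
  haveI : Fintype ↥(domField σ J) := Fintype.ofFinite _
  rw [Nat.card_units, ← h]
  exact congrArg (· - 1) (Nat.card_congr (Equiv.subtypeEquivRight fun _ => mem_domField))

/-- kernels prime to the characteristic have order at most `gcd(3, q + 1)` -/
theorem card_ker_le (p : ℕ) [Fact p.Prime] [CharP K p] (hσ : ∀ x, σ x = x ^ q) (hK : Fintype.card K = q ^ 2)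
    {Γ : Type*} [Group Γ] [Finite Γ] (π : Γ →* ↥(E62.tw σ).fix) (hsurj : Function.Surjective π)
    (hc : π.ker ≤ Subgroup.center Γ) (hco : (Nat.card π.ker).Coprime p) (hperf : _root_.commutator Γ = ⊤) :
    Nat.card π.ker ≤ Nat.gcd 3 (q + 1) := by
  classical
  have X := TwOut.E6.fam hσ hK
  have h2 := E62.two_le hK
  have h1 := LiftN.card_ker_mul_le X p MF E62.cox mF_cases braidF π hsurj hc hco hperf fun s => by
    rw [injective_iff_map_eq_one]
    intro u hu
    have hu' : (tor chevE6 auxE6 (hvec chevE6 σ (foldE62.J s)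
        (Units.map (domField σ (foldE62.J s)).subtype.toMonoidHom u)) : GL chevE6.Idx K) = 1 := hu
    exact Units.map_injective (f := (domField σ (foldE62.J s)).subtype.toMonoidHom) Subtype.val_injective
      ((hh_inj (J_cases s s.isLt) hu').trans (map_one _).symm)
  obtain ⟨c0, c1, c2, c3⟩ := TwOut.E6.card_dom hσ hK
  have hprod : ∏ s : Fin foldE62.num, Nat.card (↥(domField σ (foldE62.J s)))ˣ = (q - 1) ^ 4 * (q + 1) ^ 2 := by
    have e : ∀ g : Fin foldE62.num → ℕ, ∏ s, g s = g E6.z0 * g E6.z1 * g E6.z2 * g E6.z3 := fun g => by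
      exact Fin.prod_univ_four (g : Fin 4 → ℕ)
    rw [e, card_units_dom c0, card_units_dom c1, card_units_dom c2, card_units_dom c3,
      show q ^ 2 - 1 = (q + 1) * (q - 1) by rw [← Nat.sq_sub_sq, one_pow]]
    ring
  rw [hprod, ← E62.card_diag hσ hK h2] at h1
  haveI : Finite (GL chevE6.Idx K) := finite_GL
  exact Nat.le_of_mul_le_mul_right h1 Nat.card_pos

end CfsgLib.Chev.E62Mult
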