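import Cfsg.Agent.Lib.Chev.E62Mult.Chain
import Cfsg.Agent.Lib.Chev.E62Mult.Prime
import Cfsg.Agent.Lib.Chev.E62Mult.Cover
import Cfsg.Agent.Lib.Schur.TransferKill
import Cfsg.Agent.Lib.Schur.Basic

/-!
The multiplier of a twisted group of type E6 over more than two elements.
-/

set_option autoImplicit false
set_option maxRecDepth 100000
set_option linter.style.haveILetI false

namespace CfsgLib.Chev.E62Mult

open Cfsg.Lie Matrix CfsgLib.Chev CfsgLib.Schur

universe u

variable {K : Type u} [Field K] [Fintype K] {q : ℕ} {σ : K →+* K}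

/-- the kernel of a stem extension is small -/
theorem stem_bound (hσ : ∀ x, σ x = x ^ q) (hK : Fintype.card K = q ^ 2) (hq : 3 ≤ q) {Γ : Type*} [Group Γ]
    [Finite Γ] (π : Γ →* ↥(E62.tw σ).fix) (hs : Cfsg.IsStemExtension π) :
    Nat.card π.ker ≤ Nat.gcd 3 (q + 1) := by
  obtain ⟨p, hp⟩ := CharP.exists K
  haveI : Fact p.Prime := ⟨CharP.char_is_prime K p⟩
  haveI : Finite (GL chevE6.Idx K) := finite_GL
  obtain ⟨hsurj, hc, hst⟩ := hs
  obtain ⟨P, hP⟩ := TwOut.sylow_U (p := p) (TwOut.E6.fam hσ hK)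
  have hco : (Nat.card π.ker).Coprime p := by
    refine TransferKill.ker_coprime π hsurj hc hst _ ?_ (p_part hσ hK hq hc hsurj)
    rw [← hP]
    exact P.not_dvd_index
  refine card_ker_le p hσ hK π hsurj hc hco ?_
  rw [eq_top_iff]
  intro g _
  have hmap : (_root_.commutator Γ).map π = ⊤ := by
    rw [commutator_def, Subgroup.map_commutator, Subgroup.map_top_of_surjective π hsurj, ← commutator_def,
      E62.perfect hσ hK]
  obtain ⟨c, hc', e⟩ := (show π g ∈ (_root_.commutator Γ).map π by rw [hmap]; exact Subgroup.mem_top _)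
  have h1 : c⁻¹ * g ∈ π.ker := by rw [MonoidHom.mem_ker, map_mul, map_inv, e, inv_mul_cancel]
  have h2 := mul_mem hc' (hst h1)
  rwa [mul_inv_cancel_left] at h2

/-- **the multiplier** -/
theorem multiplier (hσ : ∀ x, σ x = x ^ q) (hK : Fintype.card K = q ^ 2) (hq : 3 ≤ q) :
    Cfsg.HasCyclicSchurMultiplier ↥(twistedE6 K q) (Nat.gcd 3 (q + 1)) := by
  haveI : Finite (GL chevE6.Idx K) := finite_GL
  have hb : ∀ (Γ : Type u) [Group Γ] [Finite Γ] (π : Γ →* ↥(twistedE6 K q)), Cfsg.IsStemExtension π →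
      Nat.card π.ker ≤ Nat.gcd 3 (q + 1) := by
    rw [E62.twisted_eq_fix hσ hK]
    exact fun Γ _ _ π hs => stem_bound hσ hK hq π hs
  rcases (Nat.dvd_prime Nat.prime_three).1 (Nat.gcd_dvd_left 3 (q + 1)) with h | h
  · rw [h] at hb ⊢
    refine hasCyclicSchurMultiplier_one_of_forall fun Γ _ _ π hs => ?_
    exact Subgroup.eq_bot_of_card_le _ (hb Γ π hs)
  · obtain ⟨p, hp⟩ := CharP.exists K
    haveI : Fact p.Prime := ⟨CharP.char_is_prime K p⟩
    have hperf : _root_.commutator ↥(twistedE6 K q) = ⊤ := by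
      rw [E62.twisted_eq_fix hσ hK]; exact E62.perfect hσ hK
    obtain ⟨Γ₀, hfin, π₀, hs₀, h₀⟩ := exists_cover (p := p) hσ hK hperf (h ▸ Nat.gcd_dvd_right 3 (q + 1))
    refine hasCyclicSchurMultiplier_of_bound hs₀ (h₀.trans h.symm) fun Γ _ _ π hs => ⟨?_, hb Γ π hs⟩
    have hle := hb Γ π hs
    rw [h] at hle
    rcases Nat.lt_or_ge (Nat.card π.ker) 2 with h1 | h1
    · haveI : Subsingleton π.ker := (Nat.card_eq_one_iff_unique.1 (by
        have := Nat.card_pos (α := π.ker); omega)).1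
      exact isCyclic_of_subsingleton
    · rcases (by omega : Nat.card π.ker = 2 ∨ Nat.card π.ker = 3) with e | e
      · haveI := Fact.mk Nat.prime_two; exact isCyclic_of_prime_card e
      · haveI := Fact.mk Nat.prime_three; exact isCyclic_of_prime_card e

end CfsgLib.Chev.E62Mult
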